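import Mathlib
import Cfsg.Agent.Lib.Unitary.Field

/-!
Coordinates `(x, b, μ)` on the centraliser of an involution of `PGU₃(q)`, `q` even (helper18).
-/

set_option autoImplicit false

namespace Cfsg.Agent.PGURec18

open Cfsg.Agent.Unitary

universe u v w

/-- Coordinates on a group isomorphic to the centraliser of an involution of `PGU₃(q)`. -/
structure Coord (Γ : Type u) [Group Γ] (K : Type v) [Field K] (q : ℕ) where
  X : Γ → K
  B : Γ → K
  M : Γ → K
  norm_M : ∀ g, M g ^ (q + 1) = 1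
  trace_B : ∀ g, B g + B g ^ q = X g ^ (q + 1)
  X_mul : ∀ g h, X (g * h) = X g + M g * X h
  B_mul : ∀ g h, B (g * h) = B g + B h + X h * (M g * X g ^ q)
  M_mul : ∀ g h, M (g * h) = M g * M h
  inj : ∀ g h, X g = X h → B g = B h → M g = M h → g = h
  surj : ∀ x b m, m ^ (q + 1) = 1 → b + b ^ q = x ^ (q + 1) → ∃ g, X g = x ∧ B g = b ∧ M g = m

namespace Coord

variable {Γ : Type u} [Group Γ] {K : Type v} [Field K] {q : ℕ}

/-- Transport along an isomorphism. -/
def map (C : Coord Γ K q) {Δ : Type w} [Group Δ] (e : Δ ≃* Γ) : Coord Δ K q where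
  X g := C.X (e g)
  B g := C.B (e g)
  M g := C.M (e g)
  norm_M g := C.norm_M _
  trace_B g := C.trace_B _
  X_mul g h := by rw [map_mul, C.X_mul]
  B_mul g h := by rw [map_mul, C.B_mul]
  M_mul g h := by rw [map_mul, C.M_mul]
  inj g h h1 h2 h3 := e.injective (C.inj _ _ h1 h2 h3)
  surj x b m hm hb := by
    obtain ⟨g, hg⟩ := C.surj x b m hm hb
    exact ⟨e.symm g, by simpa using hg⟩

end Coord

end Cfsg.Agent.PGURec18
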