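import Mathlib
import Cfsg.Agent.PGURec18.Coord

/-!
Automorphisms of an involution centraliser of `PGU₃(q)` are semilinear, and commuting semilinear maps
that are transitive on the non-zero scalars are linear (helper18).
-/

set_option autoImplicit false

namespace Cfsg.Agent.PGURec18

open Cfsg.Agent.Unitary

universe u v w

/-- Bernoulli, strict form. -/
theorem succ_mul_lt_pow {r : ℕ} (hr : 2 ≤ r) {d : ℕ} (hd : 2 ≤ d) :
    d * (r - 1) + 1 < r ^ d := by
  obtain ⟨s, rfl⟩ := Nat.exists_eq_add_of_le hr
  rw [show 2 + s - 1 = s + 1 by omega]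
  induction d, hd using Nat.le_induction with
  | base => nlinarith
  | succ d hd ih =>
    rw [pow_succ]
    have h1 : (d * (s + 1) + 1) * (2 + s) < (2 + s) ^ d * (2 + s) := by gcongr
    have h2 : 0 ≤ d * (s + 1) * (s + 1) := Nat.zero_le _
    nlinarith

/-- Commuting semilinear maps `z ↦ A σ(z)` whose multipliers exhaust the non-zero scalars are linear. -/
theorem sigma_eq_id_of_comm {L : Type u} [Field L] [Finite L] {M : Type v} (A : M → L)
    (σ : M → L ≃+* L) (hA : ∀ m, A m ≠ 0) (hsurj : ∀ c : L, c ≠ 0 → ∃ m, A m = c)
    (hcomm : ∀ g h, A g * σ g (A h) = A h * σ h (A g)) (m : M) (c : L) : σ m c = c := by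
  classical
  let R : Subfield L :=
    { carrier := {x | ∀ m, σ m x = x}
      mul_mem' := fun hx hy m => by rw [map_mul, hx m, hy m]
      one_mem' := fun m => map_one _
      add_mem' := fun hx hy m => by rw [map_add, hx m, hy m]
      zero_mem' := fun m => map_zero _
      neg_mem' := fun hx m => by rw [map_neg, hx m]
      inv_mem' := fun x hx m => by rw [map_inv₀, hx m] }
  let τ : M → (L ≃ₐ[R] L) := fun m => AlgEquiv.ofRingEquiv (f := σ m) fun r => r.2 m
  have hτ : ∀ m x, τ m x = σ m x := fun m x => rfl
  -- multipliers with the same automorphism differ by a fixed scalar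
  have hfib : ∀ g h, τ g = τ h → A h / A g ∈ R := by
    intro g h e m
    have e' : ∀ x, σ g x = σ h x := fun x => by rw [← hτ, ← hτ, e]
    have h1 := hcomm m g
    have h2 := hcomm m h
    rw [← e'] at h2
    have h0 : σ g (A m) ≠ 0 := (map_ne_zero _).2 (hA m)
    rw [map_div₀, div_eq_div_iff ((map_ne_zero _).2 (hA g)) (hA g)]
    exact mul_left_cancel₀ (hA m) (by linear_combination A g * h2 - A h * h1)
  choose sec hsec using hsurj
  have hrep : ∀ t : Set.range τ, ∃ m, τ m = t.1 := fun t => t.2
  choose rep hrepτ using hrep
  let f : {c : L // c ≠ 0} → Set.range τ × {r : R // r ≠ 0} := fun c =>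
    (⟨τ (sec c.1 c.2), _, rfl⟩,
      ⟨⟨A (sec c.1 c.2) / A (rep ⟨τ (sec c.1 c.2), _, rfl⟩),
        hfib _ _ (hrepτ ⟨τ (sec c.1 c.2), _, rfl⟩)⟩,
        fun h0 => div_ne_zero (hA _) (hA _) (congrArg Subtype.val h0)⟩)
  have hf : Function.Injective f := by
    intro c c' e
    have e1 := congrArg (fun x => x.1) e
    have e2 := congrArg (fun x => ((x.2.1 : R) : L)) e
    simp only [f] at e1 e2
    rw [e1, div_left_inj' (hA _), hsec, hsec] at e2
    exact Subtype.ext e2
  have : Fintype L := Fintype.ofFinite L
  have hle : Nat.card {c : L // c ≠ 0} ≤ Nat.card (L ≃ₐ[R] L) * Nat.card {r : R // r ≠ 0} := by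
    refine (Nat.card_le_card_of_injective f hf).trans ?_
    rw [Nat.card_prod]
    exact Nat.mul_le_mul_right _ (Nat.card_le_card_of_injective _ Subtype.val_injective)
  rw [IsGalois.card_aut_eq_finrank R L] at hle
  have hc0 : ∀ (T : Type u) [Fintype T] [Zero T], Nat.card {c : T // c ≠ 0} = Nat.card T - 1 := by
    intro T _ _
    rw [Nat.card_eq_fintype_card, Nat.card_eq_fintype_card, Fintype.card_subtype_compl,
      Fintype.card_subtype_eq]
  have : Fintype R := Fintype.ofFinite R
  rw [hc0, hc0, Nat.card_eq_fintype_card (α := L), Module.card_eq_pow_finrank (K := R) (V := L),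
    Nat.card_eq_fintype_card (α := R)] at hle
  have hr : 2 ≤ Fintype.card R := Fintype.one_lt_card
  have hd : Module.finrank R L = 1 := by
    have hpos : 0 < Module.finrank R L := Module.finrank_pos
    by_contra hne
    have := succ_mul_lt_pow hr (d := Module.finrank R L) (by omega)
    omega
  have hcard : Fintype.card R = Fintype.card L := by
    rw [Module.card_eq_pow_finrank (K := R) (V := L), hd, pow_one]
  obtain ⟨r, rfl⟩ :=
    ((Fintype.bijective_iff_injective_and_card (Subtype.val : R → L)).2
      ⟨Subtype.val_injective, hcard⟩).2 c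
  exact r.2 m

variable {K : Type v} [Field K] [Fintype K] {q : ℕ}

/-- The elements of norm one span the field additively. -/
theorem closure_norm_one (hF : Fintype.card K = q ^ 2) :
    AddSubgroup.closure {m : K | m ^ (q + 1) = 1} = ⊤ := by
  classical
  set A := AddSubgroup.closure {m : K | m ^ (q + 1) = 1} with hA
  have h1 : (1 : K) ∈ A := AddSubgroup.subset_closure (one_pow _)
  have hmul : ∀ a ∈ A, ∀ b ∈ A, a * b ∈ A := by
    intro a ha b hb
    induction ha using AddSubgroup.closure_induction with
    | mem x hx =>
      induction hb using AddSubgroup.closure_induction with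
      | mem y hy =>
        exact AddSubgroup.subset_closure (show (x * y) ^ (q + 1) = 1 by
          rw [mul_pow, show x ^ (q + 1) = 1 from hx, show y ^ (q + 1) = 1 from hy, one_mul])
      | zero => rw [mul_zero]; exact A.zero_mem
      | add y z _ _ hy hz => rw [mul_add]; exact A.add_mem hy hz
      | neg y _ hy => rw [mul_neg]; exact A.neg_mem hy
    | zero => rw [zero_mul]; exact A.zero_mem
    | add y z _ _ hy hz => rw [add_mul]; exact A.add_mem hy hz
    | neg y _ hy => rw [neg_mul]; exact A.neg_mem hy
  let S : Subring K :=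
    { carrier := A
      mul_mem' := fun ha hb => hmul _ ha _ hb
      one_mem' := h1
      add_mem' := A.add_mem
      zero_mem' := A.zero_mem
      neg_mem' := A.neg_mem }
  let R : Subfield K :=
    { S with
      inv_mem' := fun x hx => by
        by_cases h0 : x = 0
        · rw [h0, inv_zero]; exact S.zero_mem
        · have : x⁻¹ = x ^ (Fintype.card K - 2) := by
            refine inv_eq_of_mul_eq_one_left ?_
            rw [← pow_succ, show Fintype.card K - 2 + 1 = Fintype.card K - 1 by
              have := Fintype.one_lt_card (α := K); omega]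
            exact FiniteField.pow_card_sub_one_eq_one x h0
          rw [this]
          exact S.pow_mem hx _ }
  have : Fintype R := Fintype.ofFinite R
  have hbig : q + 1 < Fintype.card R := by
    have h := Fintype.card_lt_of_injective_of_notMem
      (fun x : {m : K // m ^ (q + 1) = 1} => (⟨x.1, AddSubgroup.subset_closure x.2⟩ : R))
      (fun x y e => Subtype.ext (congrArg (fun r : R => (r : K)) e)) (b := 0) (by
        rintro ⟨x, hx⟩
        have h0 : (x : K) = 0 := congrArg (fun r : R => (r : K)) hx
        have := x.2
        rw [h0] at this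
        simp at this)
    rwa [← Nat.card_eq_fintype_card, card_norm_eq_one hF] at h
  have hd : Module.finrank R K = 1 := by
    have hpos : 0 < Module.finrank R K := Module.finrank_pos
    by_contra hne
    have h2 : Fintype.card R ^ 2 ≤ Fintype.card R ^ Module.finrank R K :=
      Nat.pow_le_pow_right (by omega) (by omega)
    rw [← Module.card_eq_pow_finrank (K := R) (V := K), hF] at h2
    have := Nat.pow_le_pow_left (show q + 1 ≤ Fintype.card R by omega) 2
    nlinarith
  have hcard : Fintype.card R = Fintype.card K := by
    rw [Module.card_eq_pow_finrank (K := R) (V := K), hd, pow_one]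
  refine eq_top_iff.2 fun x _ => ?_
  obtain ⟨r, rfl⟩ := ((Fintype.bijective_iff_injective_and_card (Subtype.val : R → K)).2
    ⟨Subtype.val_injective, hcard⟩).2 x
  exact r.2

end Cfsg.Agent.PGURec18
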