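import Mathlib
import Cfsg.Agent.PGURec18.Semilinear

/-!
Structure of a group with coordinates `(x, b, μ)` (helper18).
-/

set_option autoImplicit false

namespace Cfsg.Agent.PGURec18

open Cfsg.Agent.Unitary

universe u v

namespace Coord

variable {Γ : Type u} [Group Γ] {K : Type v} [Field K] [Fintype K] [CharP K 2] {q : ℕ}
variable (C : Coord Γ K q) (hF : Fintype.card K = q ^ 2)

omit [Fintype K] [CharP K 2] in
theorem M_ne_zero (g : Γ) : C.M g ≠ 0 := fun h => by
  have := C.norm_M g
  rw [h, zero_pow (Nat.succ_ne_zero q)] at this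
  exact zero_ne_one this

omit [Fintype K] [CharP K 2] in
theorem M_one : C.M 1 = 1 :=
  mul_left_cancel₀ (C.M_ne_zero 1) (by rw [← C.M_mul, one_mul, mul_one])

/-- The torus coordinate as a homomorphism. -/
def Mhom : Γ →* K where
  toFun := C.M
  map_one' := C.M_one
  map_mul' := C.M_mul

/-- The unipotent radical. -/
def ker : Subgroup Γ := C.Mhom.ker

omit [Fintype K] [CharP K 2] in
theorem mem_ker {g : Γ} : g ∈ C.ker ↔ C.M g = 1 := Iff.rfl

omit [Fintype K] [CharP K 2] in
theorem M_inv (g : Γ) : C.M g⁻¹ = (C.M g)⁻¹ :=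
  eq_inv_of_mul_eq_one_left (by rw [← C.M_mul, inv_mul_cancel, C.M_one])

omit [Fintype K] [CharP K 2] in
theorem X_one : C.X 1 = 0 := by
  have := C.X_mul 1 1
  rw [mul_one, C.M_one, one_mul] at this
  exact left_eq_add.1 this

theorem B_one (hF : Fintype.card K = q ^ 2) : C.B 1 = 0 := by
  have := C.B_mul 1 1
  rw [mul_one, C.X_one, zero_mul, add_zero] at this
  exact left_eq_add.1 this

include hF in
omit [CharP K 2] in
theorem X_zero_pow : (0 : K) ^ (q + 1) = 0 := zero_pow (Nat.succ_ne_zero q)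

theorem sq_coords {g : Γ} (hg : C.M g = 1) :
    C.X (g * g) = 0 ∧ C.B (g * g) = C.X g ^ (q + 1) ∧ C.M (g * g) = 1 := by
  refine ⟨?_, ?_, by rw [C.M_mul, hg, one_mul]⟩
  · rw [C.X_mul, hg, one_mul, CharTwo.add_self_eq_zero]
  · rw [C.B_mul, hg, one_mul, CharTwo.add_self_eq_zero, zero_add, pow_succ']

include hF in
theorem coords_of_mul_self {g : Γ} (h : g * g = 1) : C.X g = 0 ∧ C.M g = 1 := by
  have hM : C.M g = 1 := by
    have := C.M_mul g g
    rw [h, C.M_one] at this
    exact (mul_self_eq_one_iff.1 this.symm).elim id fun e => by rw [e, CharTwo.neg_eq]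
  refine ⟨?_, hM⟩
  have := (C.sq_coords hM).2.1
  rw [h, C.B_one hF] at this
  exact pow_eq_zero_iff (Nat.succ_ne_zero q) |>.1 this.symm

include hF in
theorem mul_self_of_coords {g : Γ} (hX : C.X g = 0) (hM : C.M g = 1) : g * g = 1 := by
  obtain ⟨h1, h2, h3⟩ := C.sq_coords hM
  refine C.inj _ _ (by rw [h1, C.X_one]) ?_ (by rw [h3, C.M_one])
  rw [h2, hX, C.B_one hF, X_zero_pow hF]

include hF in
theorem central_of_coords {z : Γ} (hX : C.X z = 0) (hM : C.M z = 1) (g : Γ) : g * z = z * g := by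
  refine C.inj _ _ ?_ ?_ (by rw [C.M_mul, C.M_mul, mul_comm])
  · rw [C.X_mul, C.X_mul, hX, hM, mul_zero, add_zero, one_mul, zero_add]
  · rw [C.B_mul, C.B_mul, hX, zero_mul, add_zero]
    rcases Nat.eq_zero_or_pos q with rfl | hq
    · exact absurd hF (by simp)
    · rw [zero_pow hq.ne', mul_zero, mul_zero, add_zero, add_comm]

theorem conj_X {s : Γ} (g : Γ) (hs : C.M s = 1) : C.X (g * s * g⁻¹) = C.M g * C.X s := by
  have h1 := C.X_mul (g * s * g⁻¹) g
  rw [inv_mul_cancel_right, C.X_mul g s, C.M_mul, C.M_mul, C.M_inv, hs, mul_one,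
    mul_inv_cancel₀ (C.M_ne_zero g), one_mul, add_comm] at h1
  exact (add_right_cancel h1).symm

include hF in
/-- Any element centralising the radical lies in its centre. -/
theorem coords_of_centralises {g : Γ} (h : ∀ s ∈ C.ker, g * s = s * g) :
    C.X g = 0 ∧ C.M g = 1 := by
  obtain ⟨b, hb⟩ := exists_trace_eq hF (t := (1 : K)) (one_pow q)
  obtain ⟨s, hs1, -, hs3⟩ := C.surj 1 b 1 (one_pow _) (by rw [one_pow, hb])
  have hM : C.M g = 1 := by
    have := congrArg C.X (h s hs3)
    rw [C.X_mul, C.X_mul, hs1, hs3, mul_one, one_mul, add_comm (1 : K)] at this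
    exact add_left_cancel this
  refine ⟨?_, hM⟩
  have key : ∀ c : K, c * C.X g ^ q = C.X g * c ^ q := by
    intro c
    obtain ⟨b', hb'⟩ := exists_trace_eq hF (norm_fixed hF c)
    obtain ⟨s', hs1', -, hs3'⟩ := C.surj c b' 1 (one_pow _) hb'
    have := congrArg C.B (h s' hs3')
    rw [C.B_mul, C.B_mul, hs1', hs3', hM, one_mul, one_mul, add_comm (C.B s')] at this
    exact add_left_cancel this
  by_contra h0
  have hall : ∀ c : K, c ^ q = c := fun c => by
    have h1 := key 1
    rw [one_mul, one_pow, mul_one] at h1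
    have h2 := key c
    rw [h1] at h2
    exact (mul_left_cancel₀ h0 (by rw [mul_comm] at h2; exact h2)).symm
  have hc := card_fixed hF
  rw [Nat.card_congr (Equiv.subtypeUnivEquiv hall), Nat.card_eq_fintype_card, hF] at hc
  have := two_le_q hF
  nlinarith

include hF in
/-- The radical consists of the elements of exponent four. -/
theorem mem_ker_iff_pow {g : Γ} : g ∈ C.ker ↔ g ^ 4 = 1 := by
  rw [C.mem_ker]
  constructor
  · intro hg
    obtain ⟨h1, -, h3⟩ := C.sq_coords hg
    rw [show g ^ 4 = g * g * (g * g) by simp [pow_succ, mul_assoc]]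
    exact C.mul_self_of_coords hF h1 h3
  · intro h
    rw [show g ^ 4 = g * g * (g * g) by simp [pow_succ, mul_assoc]] at h
    have := (C.coords_of_mul_self hF h).2
    rw [C.M_mul] at this
    exact (mul_self_eq_one_iff.1 this).elim id fun e => by rw [e, CharTwo.neg_eq]

include hF in
theorem card_fibre (x : K) : Nat.card {b : K // b + b ^ q = x ^ (q + 1)} = q := by
  obtain ⟨b₀, hb₀⟩ := exists_trace_eq hF (norm_fixed hF x)
  refine Eq.trans ?_ (card_trace_ker hF)
  refine Nat.card_congr ((Equiv.subRight b₀).subtypeEquiv fun b => ?_)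
  simp only [Equiv.subRight_apply, sub_pow_q hF]
  constructor
  · intro hb; linear_combination hb - hb₀
  · intro hb; linear_combination hb + hb₀

include C hF in
theorem card_eq : Nat.card Γ = q ^ 3 * (q + 1) := by
  have e : Γ ≃ (Σ x : K, {b : K // b + b ^ q = x ^ (q + 1)}) × {m : K // m ^ (q + 1) = 1} :=
    Equiv.ofBijective (fun g => (⟨C.X g, C.B g, C.trace_B g⟩, ⟨C.M g, C.norm_M g⟩))
      ⟨fun g h e => by
        simp only [Prod.mk.injEq, Sigma.mk.injEq, Subtype.mk.injEq] at e
        obtain ⟨⟨e1, e2⟩, e3⟩ := e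
        refine C.inj _ _ e1 ?_ e3
        have : ∀ (x x' : K) (b : {b : K // b + b ^ q = x ^ (q + 1)})
            (b' : {b : K // b + b ^ q = x' ^ (q + 1)}), x = x' → HEq b b' → b.1 = b'.1 := by
          rintro x _ b b' rfl hh
          rw [eq_of_heq hh]
        exact this _ _ _ _ e1 e2,
      fun ⟨⟨x, b, hb⟩, ⟨m, hm⟩⟩ => by
        obtain ⟨g, rfl, rfl, rfl⟩ := C.surj x b m hm hb
        exact ⟨g, rfl⟩⟩
  rw [Nat.card_congr e, Nat.card_prod, card_norm_eq_one hF, Nat.card_sigma,
    Finset.sum_congr rfl fun x _ => card_fibre hF x, Finset.sum_const, Finset.card_univ, hF]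
  simp [pow_succ]

include C hF in
theorem card_ker : Nat.card C.ker = q ^ 3 := by
  have e : C.ker ≃ Σ x : K, {b : K // b + b ^ q = x ^ (q + 1)} :=
    Equiv.ofBijective (fun g => ⟨C.X g, C.B g, C.trace_B g⟩)
      ⟨fun g h e => by
        simp only [Sigma.mk.injEq] at e
        refine Subtype.ext (C.inj _ _ e.1 ?_ (g.2.trans h.2.symm))
        have : ∀ (x x' : K) (b : {b : K // b + b ^ q = x ^ (q + 1)})
            (b' : {b : K // b + b ^ q = x' ^ (q + 1)}), x = x' → HEq b b' → b.1 = b'.1 := by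
          rintro x _ b b' rfl hh
          rw [eq_of_heq hh]
        exact this _ _ _ _ e.1 e.2,
      fun ⟨x, b, hb⟩ => by
        obtain ⟨g, rfl, rfl, hm⟩ := C.surj x b 1 (one_pow _) hb
        exact ⟨⟨g, hm⟩, rfl⟩⟩
  rw [Nat.card_congr e, Nat.card_sigma, Finset.sum_congr rfl fun x _ => card_fibre hF x,
    Finset.sum_const, Finset.card_univ, hF]
  simp [pow_succ]

include C hF in
theorem card_sq_one : Nat.card {g : Γ // g * g = 1} = q := by
  refine Eq.trans ?_ (card_trace_ker hF)
  refine Nat.card_congr (Equiv.ofBijective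
    (fun g => ⟨C.B g, by rw [C.trace_B, (C.coords_of_mul_self hF g.2).1, X_zero_pow hF]⟩) ⟨?_, ?_⟩)
  · intro g h e
    obtain ⟨a1, a2⟩ := C.coords_of_mul_self hF g.2
    obtain ⟨b1, b2⟩ := C.coords_of_mul_self hF h.2
    exact Subtype.ext (C.inj _ _ (a1.trans b1.symm) (congrArg Subtype.val e) (a2.trans b2.symm))
  · rintro ⟨b, hb⟩
    obtain ⟨g, h1, h2, h3⟩ := C.surj 0 b 1 (one_pow _) (by rw [hb, X_zero_pow hF])
    exact ⟨⟨g, C.mul_self_of_coords hF h1 h3⟩, Subtype.ext h2⟩

include hF in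
/-- Automorphisms act semilinearly. -/
theorem aut_semilinear (α : Γ ≃* Γ) :
    ∃ (a : K) (τ : K ≃+* K), a ≠ 0 ∧ (∀ g, C.M (α g) = τ (C.M g)) ∧
      ∀ z, z * z = 1 → C.B (α z) = a ^ (q + 1) * τ (C.B z) := by
  classical
  have hker : ∀ {g : Γ}, C.M g = 1 → C.M (α g) = 1 := fun {g} hg =>
    C.mem_ker.1 ((C.mem_ker_iff_pow hF).2 (by
      rw [← map_pow, (C.mem_ker_iff_pow hF).1 (C.mem_ker.2 hg), map_one]))
  have hsec : ∀ x : K, ∃ s : Γ, C.X s = x ∧ C.M s = 1 := fun x => by
    obtain ⟨b, hb⟩ := exists_trace_eq hF (norm_fixed hF x)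
    obtain ⟨s, h1, -, h3⟩ := C.surj x b 1 (one_pow _) hb
    exact ⟨s, h1, h3⟩
  choose sec hsX hsM using hsec
  set H : K → K := fun x => C.X (α (sec x)) with hH
  have hkey : ∀ s : Γ, C.M s = 1 → C.X (α s) = H (C.X s) := by
    intro s hs
    set t := sec (C.X s) with ht
    have hz : C.M (s * t⁻¹) = 1 := by rw [C.M_mul, C.M_inv, hs, hsM, inv_one, one_mul]
    have hX : C.X (s * t⁻¹) = 0 := by
      have := C.X_mul (s * t⁻¹) t
      rw [inv_mul_cancel_right, hz, one_mul, ht, hsX] at this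
      exact right_eq_add.1 this
    have h1 : α (s * t⁻¹) * α (s * t⁻¹) = 1 := by
      rw [← map_mul, C.mul_self_of_coords hF hX hz, map_one]
    obtain ⟨h2, h3⟩ := C.coords_of_mul_self hF h1
    have := C.X_mul (α (s * t⁻¹)) (α t)
    rw [← map_mul, inv_mul_cancel_right, h2, h3, one_mul, zero_add] at this
    exact this
  have hadd : ∀ x y, H (x + y) = H x + H y := by
    intro x y
    have hm : C.M (sec x * sec y) = 1 := by rw [C.M_mul, hsM, hsM, one_mul]
    have := hkey _ hm
    rw [map_mul, C.X_mul, hker (hsM x), one_mul, C.X_mul, hsM, one_mul, hsX, hsX] at this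
    exact this.symm
  have hH0 : ∀ x, H x = 0 → x = 0 := by
    intro x hx
    have h1 : α (sec x * sec x) = 1 := by
      rw [map_mul, C.mul_self_of_coords hF hx (hker (hsM x))]
    rw [← hsX x]
    exact (C.coords_of_mul_self hF (α.injective (h1.trans α.map_one.symm))).1
  have hinj : Function.Injective H := fun x y e => by
    have := hadd (x - y) y
    rw [sub_add_cancel, e] at this
    exact sub_eq_zero.1 (hH0 _ (left_eq_add.1 (this.trans (add_comm _ _))))
  have hmuH : ∀ g x, H (C.M g * x) = C.M (α g) * H x := by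
    intro g x
    have hm : C.M (g * sec x * g⁻¹) = 1 := by
      rw [C.M_mul, C.M_mul, C.M_inv, hsM, mul_one, mul_inv_cancel₀ (C.M_ne_zero g)]
    have := hkey _ hm
    rw [C.conj_X g (hsM x), hsX, map_mul, map_mul, map_inv, C.conj_X (α g) (hker (hsM x))] at this
    exact this.symm
  set a := H 1 with ha
  have ha0 : a ≠ 0 := fun h0 => one_ne_zero (hH0 1 h0)
  set t : K → K := fun x => H x / a with ht
  have tadd : ∀ x y, t (x + y) = t x + t y := fun x y => by
    simp only [ht]; rw [hadd, add_div]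
  have t1 : t 1 = 1 := div_self ha0
  have tM : ∀ g, C.M (α g) = t (C.M g) := fun g => by
    have := hmuH g 1
    rw [mul_one] at this
    simp only [ht]
    rw [this, mul_div_assoc, div_self ha0, mul_one]
  have tmul : ∀ x y, t (x * y) = t x * t y := by
    intro x
    have hx : x ∈ AddSubgroup.closure {m : K | m ^ (q + 1) = 1} := by
      rw [closure_norm_one hF]; trivial
    induction hx using AddSubgroup.closure_induction with
    | mem m hm =>
      intro y
      obtain ⟨b, hb⟩ := exists_trace_eq hF (norm_fixed hF (0 : K))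
      obtain ⟨g, -, -, rfl⟩ := C.surj 0 b m hm hb
      rw [← tM g]
      simp only [ht]
      rw [hmuH, mul_div_assoc]
    | zero =>
      intro y
      have : t 0 = 0 := by
        have h := tadd 0 0
        rw [add_zero] at h
        exact left_eq_add.1 h
      rw [zero_mul, this, zero_mul]
    | add x y _ _ hx hy => intro z; rw [add_mul, tadd, hx, hy, tadd, add_mul]
    | neg x _ hx => intro z; rw [CharTwo.neg_eq]; exact hx z
  have tbij : Function.Bijective t := Finite.injective_iff_bijective.1 fun x y e => by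
    exact hinj (by simpa [ht, ha0] using e)
  let τ : K ≃+* K :=
    { Equiv.ofBijective t tbij with map_mul' := tmul, map_add' := tadd }
  have hτ : ∀ x, τ x = t x := fun x => rfl
  refine ⟨a, τ, ha0, fun g => tM g, fun z hz => ?_⟩
  obtain ⟨hzX, hzM⟩ := C.coords_of_mul_self hF hz
  have hfix : C.B z ^ q = C.B z := by
    have := C.trace_B z
    rw [hzX, X_zero_pow hF] at this
    exact (CharTwo.add_eq_zero.1 this).symm
  obtain ⟨x, hx⟩ := exists_norm_eq hF hfix
  obtain ⟨h1, h2, h3⟩ := C.sq_coords (hsM x)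
  have hzs : z = sec x * sec x :=
    C.inj _ _ (hzX.trans h1.symm) (by rw [h2, hsX, hx]) (hzM.trans h3.symm)
  rw [hzs, map_mul, (C.sq_coords (hker (hsM x))).2.1, h2, hkey _ (hsM x), hsX, hτ]
  have htp : t (x ^ (q + 1)) = t x ^ (q + 1) := map_pow (⟨⟨t, t1⟩, tmul⟩ : K →* K) x (q + 1)
  rw [htp, ← mul_pow]
  simp only [ht]
  rw [mul_div_cancel₀ _ ha0]

end Coord

end Cfsg.Agent.PGURec18
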