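import Mathlib
import Cfsg.Agent.PGURec18.Coord
import Cfsg.Agent.AutPSU.Main
import Cfsg.Agent.Lib.Unitary.Outer

/-!
The centraliser of a transvection in `PGU₃(q)`, `q` even (helper18).
-/

set_option autoImplicit false

namespace Cfsg.Agent.PGURec18

open Matrix Cfsg.Agent.Unitary Cfsg.Agent.AutPSU

universe u

variable {F : Type u} [Field F] [Fintype F] [CharP F 2] {q : ℕ}

/-- The group `GU₃(q)` modulo its centre. -/
abbrev PGU3 (F : Type u) [Field F] (q : ℕ) : Type u :=
  ↥(Cfsg.GU 3 F q) ⧸ Subgroup.center ↥(Cfsg.GU 3 F q)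

theorem smul_self_add (v : Fin 3 → F) : v + v = 0 := by
  rw [← two_smul F v, CharTwo.two_eq_zero, zero_smul]

theorem exists_coord (hF : Fintype.card F = q ^ 2) :
    ∃ y : PGU3 F q, orderOf y = 2 ∧
      Nonempty (Coord ↥(Subgroup.centralizer ({y} : Set (PGU3 F q))) F q) := by
  classical
  obtain ⟨S, e, f, h, hS, hS2⟩ := exists_frame hF (le_refl 3)
  have hfe := h.fe hF
  obtain ⟨k, hk⟩ : ∃ k, Sᶜ = {k} :=
    Finset.card_eq_one.1 (by rw [Finset.card_compl, hS2]; simp)
  set u : Fin 3 → F := eI k with hu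
  have huo : Orth2 q e f u := (hS _).2 (eI_mem_supp (by
    have : k ∈ Sᶜ := by rw [hk]; simp
    simpa using this))
  have huu : herm q u u = 1 := by rw [hu, herm_eI_eI hF, if_pos rfl]
  have hdec : ∀ v, v = herm q v f • e + herm q v e • f + herm q v u • u := by
    intro v
    have hw := orth2_prj hF h v
    have hp : prj q e f v = herm q v u • u := by
      have h1 : herm q v u = prj q e f v k := by
        conv_lhs => rw [eq_prj (q := q) e f v]
        simp only [herm_add_left, herm_smul_left, (huo.left hF).1, (huo.left hF).2, mul_zero,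
          zero_add]
        rw [hu, herm_eI_right hF]
      funext i
      by_cases hi : i = k
      · subst hi; rw [h1]; simp [hu, eI]
      · have hiS : i ∈ S := by
          by_contra hh
          have : i ∈ Sᶜ := Finset.mem_compl.2 hh
          rw [hk, Finset.mem_singleton] at this
          exact hi this
        rw [(hS _).1 hw i hiS]
        simp [hu, eI, hi]
    conv_lhs => rw [eq_prj (q := q) e f v]
    rw [hp]
  -- the transvection
  have h1c : (1 : F) + 1 ^ q = 0 := by rw [one_pow, CharTwo.add_self_eq_zero]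
  set T : Cfsg.GU 3 F q := toGU (tv hF h.ee h1c) with hT
  have hTx : ∀ x : Fin 3 → F, T • x = x + herm q x e • e := fun x => by
    rw [hT, toGU_smul, tv_smul, one_mul]
  have hTT : T * T = 1 := eq_of_smul_eq_GU fun x => by
    rw [mul_smul, one_smul, hTx, hTx, herm_add_left, herm_smul_left, h.ee, mul_zero, add_zero,
      add_assoc, smul_self_add, add_zero]
  set y : PGU3 F q := QuotientGroup.mk T with hy
  have hy1 : y ≠ 1 := fun hy1 => by
    obtain ⟨r, hr⟩ := (mem_center_GU_iff hF).1 ((QuotientGroup.eq_one_iff T).1 hy1)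
    have h1 := congrArg (fun x => herm q x e) (hr f)
    have h2 := congrArg (fun x => herm q x f) (hr f)
    simp only [hTx, herm_add_left, herm_smul_left, hfe, h.ee, h.ff, h.ef, one_mul, mul_zero,
      zero_add, add_zero, mul_one] at h1 h2
    exact one_ne_zero h2
  have hy2 : orderOf y = 2 := orderOf_eq_prime (by
    rw [pow_two, hy, ← QuotientGroup.mk_mul, hTT, QuotientGroup.mk_one]) hy1
  refine ⟨y, hy2, ?_⟩
  -- the stabiliser of `e`
  let Γ : Subgroup (Cfsg.GU 3 F q) := MulAction.stabilizer (Cfsg.GU 3 F q) e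
  have hΓ : ∀ g : Γ, (g : Cfsg.GU 3 F q) • e = e := fun g => g.2
  have hcomm : ∀ g ∈ Γ, T * g = g * T := fun g hg => eq_of_smul_eq_GU fun x => by
    have hge : g • e = e := hg
    rw [mul_smul, mul_smul, hTx, hTx, smul_add, smul_comm g (herm q x e) e, hge]
    congr 2
    conv_lhs => rw [← hge, herm_smul_GU]
  let π : Γ →* Subgroup.centralizer ({y} : Set (PGU3 F q)) :=
    ((QuotientGroup.mk' _).comp Γ.subtype).codRestrict _ fun g => by
      rw [Subgroup.mem_centralizer_singleton_iff]
      show ((g : Cfsg.GU 3 F q) : PGU3 F q) * y = y * ((g : Cfsg.GU 3 F q) : PGU3 F q)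
      rw [hy, ← QuotientGroup.mk_mul, ← QuotientGroup.mk_mul, hcomm _ g.2]
  have hπi : Function.Injective π := (injective_iff_map_eq_one π).2 fun g hg => by
    obtain ⟨r, hr⟩ := (mem_center_GU_iff hF).1
      ((QuotientGroup.eq_one_iff (g : Cfsg.GU 3 F q)).1 (congrArg Subtype.val hg))
    have hr1 : r = 1 := by
      have := congrArg (fun x => herm q x f) ((hr e).symm.trans (hΓ g))
      simpa [herm_smul_left, h.ef] using this
    refine Subtype.ext (eq_of_smul_eq_GU fun x => ?_)
    rw [hr, hr1, Subgroup.coe_one, one_smul, one_smul]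
  have hπs : Function.Surjective π := by
    rintro ⟨c, hc⟩
    obtain ⟨g, rfl⟩ := QuotientGroup.mk_surjective c
    rw [Subgroup.mem_centralizer_singleton_iff, hy, ← QuotientGroup.mk_mul, ← QuotientGroup.mk_mul,
      QuotientGroup.eq, mem_center_GU_iff hF] at hc
    obtain ⟨r, hr⟩ := hc
    have hr' : ∀ x, T • g • x = r • g • T • x := fun x => by
      have := congrArg (fun z => (g * T) • z) (hr x)
      rw [← mul_smul (g * T), mul_inv_cancel_left, smul_comm (g * T) r] at this
      simpa [mul_smul] using this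
    -- `g` maps the centre of the transvection to itself
    have hge0 : g • e ≠ 0 := fun h0 => h.e_ne ((smul_eq_zero_iff_eq g).1 h0)
    have hTe : ∀ a : F, T • (a • e) = a • e := fun a => by
      rw [hTx, herm_smul_left, h.ee, mul_zero, zero_smul, add_zero]
    have e1 := hr' e
    rw [hTx (g • e), show T • e = e by simpa using hTe 1] at e1
    have hr1 : r = 1 := by
      by_contra hr1
      have hpar : (1 - r) • (g • e) = herm q (g • e) e • e := by
        have h2 : g • e + herm q (g • e) e • e + herm q (g • e) e • e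
            = r • g • e + herm q (g • e) e • e := by rw [e1]
        rw [add_assoc, smul_self_add, add_zero] at h2
        rw [sub_smul, one_smul, sub_eq_iff_eq_add', ← h2]
      have hge : g • e = ((1 - r)⁻¹ * herm q (g • e) e) • e := by
        rw [mul_smul, ← hpar, smul_smul, inv_mul_cancel₀ (sub_ne_zero.2 (Ne.symm hr1)), one_smul]
      rw [hge, herm_smul_left, h.ee, mul_zero, zero_smul, add_zero, smul_smul] at e1
      have h3 : ((1 - r) * ((1 - r)⁻¹ * herm q (g • e) e)) • e = 0 := by
        rw [sub_mul, one_mul, sub_smul, ← e1, sub_self]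
      rw [← smul_smul, ← hge] at h3
      rcases smul_eq_zero.1 h3 with h4 | h4
      · exact hr1 (sub_eq_zero.1 h4).symm
      · exact hge0 h4
    have e2 := hr' f
    rw [hr1, one_smul, hTx, hTx, hfe, one_smul, smul_add, add_right_inj] at e2
    set l := herm q (g • f) e with hl
    have hl0 : l ≠ 0 := fun h0 => hge0 (by rw [← e2, h0, zero_smul])
    have hle : herm q (g • f) (g • e) = 1 := by rw [herm_smul_GU, hfe]
    rw [← e2, herm_smul_right hF, ← hl] at hle
    have hnorm : (l⁻¹ : F) ^ (q + 1) = 1 := by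
      rw [inv_pow, inv_eq_one, pow_succ]; exact hle
    obtain ⟨s, hs, -⟩ := exists_scalar_GU hF (n := 3) hnorm
    refine ⟨⟨s * g, ?_⟩, ?_⟩
    · show (s * g) • e = e
      rw [mul_smul, ← e2, hs, smul_smul, inv_mul_cancel₀ hl0, one_smul]
    · apply Subtype.ext
      show ((s * g : Cfsg.GU 3 F q) : PGU3 F q) = (g : PGU3 F q)
      rw [QuotientGroup.mk_mul, (QuotientGroup.eq_one_iff s).2 (scalar_mem_center_GU hs), one_mul]
  let E : Γ ≃* Subgroup.centralizer ({y} : Set (PGU3 F q)) := MulEquiv.ofBijective π ⟨hπi, hπs⟩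
  -- coordinates
  have hgf : ∀ g : Γ, (g : Cfsg.GU 3 F q) • f =
      f + herm q ((g : Cfsg.GU 3 F q) • f) u • u + herm q ((g : Cfsg.GU 3 F q) • f) f • e := by
    intro g
    have h1 : herm q ((g : Cfsg.GU 3 F q) • f) e = 1 := by
      conv_lhs => rw [← hΓ g, herm_smul_GU, hfe]
    conv_lhs => rw [hdec ((g : Cfsg.GU 3 F q) • f), h1, one_smul]
    abel
  have hgu : ∀ g : Γ, (g : Cfsg.GU 3 F q) • u = herm q ((g : Cfsg.GU 3 F q) • u) u • u +
      (herm q ((g : Cfsg.GU 3 F q) • u) u * herm q ((g : Cfsg.GU 3 F q) • f) u ^ q) • e := by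
    intro g
    have h1 : herm q ((g : Cfsg.GU 3 F q) • u) e = 0 := by
      conv_lhs => rw [← hΓ g, herm_smul_GU, huo.1]
    have h2 : herm q ((g : Cfsg.GU 3 F q) • u) ((g : Cfsg.GU 3 F q) • f) = 0 := by
      rw [herm_smul_GU, huo.2]
    rw [hgf g] at h2
    simp only [herm_add_right hF, herm_smul_right hF, h1, mul_zero, add_zero] at h2
    conv_lhs => rw [hdec ((g : Cfsg.GU 3 F q) • u), h1, zero_smul, add_zero,
      CharTwo.add_eq_zero.1 h2]
    rw [add_comm, mul_comm (herm q ((g : Cfsg.GU 3 F q) • u) u)]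
  refine ⟨(Coord.map ?_ E.symm)⟩
  refine
    { X := fun g => herm q ((g : Cfsg.GU 3 F q) • f) u
      B := fun g => herm q ((g : Cfsg.GU 3 F q) • f) f
      M := fun g => herm q ((g : Cfsg.GU 3 F q) • u) u
      norm_M := fun g => ?_
      trace_B := fun g => ?_
      X_mul := fun g g' => ?_
      B_mul := fun g g' => ?_
      M_mul := fun g g' => ?_
      inj := fun g g' h1 h2 h3 => ?_
      surj := fun x b m hm hb => ?_ }
  · have h1 : herm q ((g : Cfsg.GU 3 F q) • u) ((g : Cfsg.GU 3 F q) • u) = 1 := by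
      rw [herm_smul_GU, huu]
    rw [hgu g] at h1
    simp only [herm_add_left, herm_add_right hF, herm_smul_left, herm_smul_right hF, h.ee, huo.1,
      (huo.left hF).1, huu, mul_zero, add_zero, mul_one] at h1
    rw [pow_succ]; linear_combination h1
  · have h1 : herm q ((g : Cfsg.GU 3 F q) • f) ((g : Cfsg.GU 3 F q) • f) = 0 := by
      rw [herm_smul_GU, h.ff]
    rw [hgf g] at h1
    simp only [herm_add_left, herm_add_right hF, herm_smul_left, herm_smul_right hF, h.ee, h.ff,
      h.ef, hfe, huo.1, huo.2, (huo.left hF).1, (huo.left hF).2, huu, mul_zero, add_zero, zero_add,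
      mul_one] at h1
    rw [← CharTwo.add_eq_zero, pow_succ]
    linear_combination h1
  · show herm q (((g * g' : Γ) : Cfsg.GU 3 F q) • f) u = _
    rw [Subgroup.coe_mul, mul_smul]
    conv_lhs => rw [hgf g', smul_add, smul_add, smul_comm _ _ u, smul_comm _ _ e, hΓ g]
    simp only [herm_add_left, herm_smul_left, (huo.left hF).1, mul_zero, add_zero]
    ring
  · show herm q (((g * g' : Γ) : Cfsg.GU 3 F q) • f) f = _
    rw [Subgroup.coe_mul, mul_smul]
    conv_lhs => rw [hgf g', smul_add, smul_add, smul_comm _ _ u, smul_comm _ _ e, hΓ g, hgu g]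
    simp only [herm_add_left, herm_smul_left, smul_add, smul_smul, h.ef, huo.2, mul_zero, mul_one,
      zero_add, add_zero]
    ring
  · show herm q (((g * g' : Γ) : Cfsg.GU 3 F q) • u) u = _
    rw [Subgroup.coe_mul, mul_smul]
    conv_lhs => rw [hgu g', smul_add, smul_comm _ _ u, smul_comm _ _ e, hΓ g]
    simp only [herm_add_left, herm_smul_left, (huo.left hF).1, mul_zero, add_zero]
    ring
  · refine Subtype.ext (eq_of_smul_eq_GU fun v => ?_)
    have e3 : (g : Cfsg.GU 3 F q) • f = (g' : Cfsg.GU 3 F q) • f := by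
      rw [hgf g, hgf g', h1, h2]
    have e4 : (g : Cfsg.GU 3 F q) • u = (g' : Cfsg.GU 3 F q) • u := by
      rw [hgu g, hgu g', h1, h3]
    rw [hdec v, smul_add, smul_add, smul_add, smul_add, smul_comm (g : Cfsg.GU 3 F q) _ e,
      smul_comm (g : Cfsg.GU 3 F q) _ f, smul_comm (g : Cfsg.GU 3 F q) _ u,
      smul_comm (g' : Cfsg.GU 3 F q) _ e, smul_comm (g' : Cfsg.GU 3 F q) _ f,
      smul_comm (g' : Cfsg.GU 3 F q) _ u, hΓ, hΓ, e3, e4]
  · have hm0 : m ≠ 0 := fun h0 => by simp [h0] at hm
    -- the torus element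
    let D : (Fin 3 → F) →ₗ[F] Fin 3 → F :=
      { toFun := fun v => v + ((m + 1) * herm q v u) • u
        map_add' := fun v v' => by rw [herm_add_left, mul_add, add_smul]; abel
        map_smul' := fun c v => by
          rw [herm_smul_left, RingHom.id_apply, smul_add, smul_smul]; ring_nf }
    obtain ⟨d, hd⟩ : ∃ d : Cfsg.GU 3 F q, ∀ v, d • v = D v := by
      refine ⟨mkGU hF (LinearMap.toMatrix' D) ?_, fun v => by
        rw [mkGU_smul, LinearMap.toMatrix'_mulVec]⟩
      intro v v'
      rw [LinearMap.toMatrix'_mulVec, LinearMap.toMatrix'_mulVec]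
      show herm q (v + _) (v' + _) = _
      have hvu : ∀ x, herm q u x = herm q x u ^ q := fun x => herm_swap hF x u
      simp only [herm_add_left, herm_add_right hF, herm_smul_left, herm_smul_right hF, huu, hvu,
        mul_pow, add_pow_q hF, one_pow]
      linear_combination (herm q v u * herm q v' u ^ q) * hm +
        (herm q v u * herm q v' u ^ q * (m ^ q + m + 2)) * CharTwo.two_eq_zero (R := F)
    have hwo : Orth2 q e f (x • u) :=
      ⟨by rw [herm_smul_left, huo.1, mul_zero], by rw [herm_smul_left, huo.2, mul_zero]⟩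
    have hbw : b + b ^ q = -herm q (x • u) (x • u) := by
      rw [herm_smul_left, herm_smul_right hF, huu, mul_one, CharTwo.neg_eq, ← pow_succ', hb]
    set g₀ : Cfsg.GU 3 F q := toGU (Qel hF h.ee hwo.1 hbw) * d with hg₀
    have hde : d • e = e := by
      rw [hd]; show e + _ = e
      rw [(huo.left hF).1, mul_zero, zero_smul, add_zero]
    have hdf : d • f = f := by
      rw [hd]; show f + _ = f
      rw [(huo.left hF).2, mul_zero, zero_smul, add_zero]
    have hdu : d • u = m • u := by
      rw [hd]; show u + _ = _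
      rw [huu, mul_one, add_smul, one_smul, add_left_comm, smul_self_add, add_zero]
    refine ⟨⟨g₀, ?_⟩, ?_, ?_, ?_⟩
    · show g₀ • e = e
      rw [hg₀, mul_smul, hde, toGU_smul, Qel_e hF h hwo]
    · show herm q (g₀ • f) u = x
      rw [hg₀, mul_smul, hdf, toGU_smul, Qel_f hF h hwo]
      simp [herm_add_left, herm_smul_left, (huo.left hF).1, (huo.left hF).2, huu]
    · show herm q (g₀ • f) f = b
      rw [hg₀, mul_smul, hdf, toGU_smul, Qel_f hF h hwo]
      simp [herm_add_left, herm_smul_left, h.ff, h.ef, huo.2]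
    · show herm q (g₀ • u) u = m
      rw [hg₀, mul_smul, hdu, smul_comm, toGU_smul, Qel_smul]
      simp [herm_add_left, herm_neg_left, herm_smul_left, herm_sub_left, (huo.left hF).1, huo.1, huu]

end Cfsg.Agent.PGURec18
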