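import Mathlib
import Cfsg.Agent.PGURec18.Facts
import Cfsg.Agent.TwoFusionB.StronglyEmbedded
import Cfsg.Prelude.Def_Involutions

/-!
Groups in which the involution centralisers are those of `PGU₃(q)`, `q` even: the Sylow 2-subgroups
meet trivially and their normalisers are strongly embedded (helper18).
-/

set_option autoImplicit false

namespace Cfsg.Agent.PGURec18

open Cfsg.Agent.Unitary

universe u v

variable {G : Type u} [Group G] {K : Type v} [Field K] {q : ℕ}

/-- The standing hypotheses. -/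
structure Hyp (G : Type u) [Group G] (K : Type v) [Field K] (q : ℕ) : Prop where
  two_lt : 2 < q
  conj : ∀ s t : G, orderOf s = 2 → orderOf t = 2 → IsConj s t
  coord : ∀ x : G, orderOf x = 2 →
    Nonempty (Coord ↥(Subgroup.centralizer ({x} : Set G)) K q)
  exists_inv : ∃ x : G, orderOf x = 2
  not_normal : ∀ P : Sylow 2 G, ¬ (P : Subgroup G).Normal

/-- The Sylow 2-subgroup of the centraliser of `x`. -/
def rad (x : G) : Subgroup G :=
  Subgroup.closure {g | g ∈ Subgroup.centralizer ({x} : Set G) ∧ g ^ 4 = 1}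

/-- The normaliser of the Sylow 2-subgroup above `x`. -/
def hgrp (x : G) : Subgroup G := Subgroup.normalizer (rad x : Set G)

theorem mem_cent {x g : G} : g ∈ Subgroup.centralizer ({x} : Set G) ↔ g * x = x * g :=
  Subgroup.mem_centralizer_singleton_iff

theorem orderOf_eq_two {z : G} (h1 : z ≠ 1) (h2 : z * z = 1) : orderOf z = 2 :=
  orderOf_eq_prime (by rw [pow_two, h2]) h1

theorem cent_conj (g x : G) :
    (Subgroup.centralizer ({x} : Set G)).map (MulAut.conj g).toMonoidHom =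
      Subgroup.centralizer ({g * x * g⁻¹} : Set G) := by
  ext y
  rw [Subgroup.mem_map, mem_cent]
  constructor
  · rintro ⟨z, hz, rfl⟩
    rw [mem_cent] at hz
    simp only [MulEquiv.coe_toMonoidHom, MulAut.conj_apply]
    calc g * z * g⁻¹ * (g * x * g⁻¹) = g * (z * x) * g⁻¹ := by group
      _ = g * (x * z) * g⁻¹ := by rw [hz]
      _ = g * x * g⁻¹ * (g * z * g⁻¹) := by group
  · intro h
    refine ⟨g⁻¹ * y * g, mem_cent.2 ?_, by simp [mul_assoc]⟩
    calc g⁻¹ * y * g * x = g⁻¹ * (y * (g * x * g⁻¹)) * g := by group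
      _ = g⁻¹ * (g * x * g⁻¹ * y) * g := by rw [h]
      _ = x * (g⁻¹ * y * g) := by group

theorem rad_conj (g x : G) :
    (rad x).map (MulAut.conj g).toMonoidHom = rad (g * x * g⁻¹) := by
  rw [rad, rad, MonoidHom.map_closure]
  congr 1
  ext y
  rw [Set.mem_image, Set.mem_setOf_eq, ← cent_conj]
  constructor
  · rintro ⟨z, ⟨h1, h2⟩, rfl⟩
    exact ⟨Subgroup.mem_map_of_mem _ h1, by rw [← map_pow, h2, map_one]⟩
  · rintro ⟨h1, h2⟩
    obtain ⟨z, hz, rfl⟩ := Subgroup.mem_map.1 h1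
    refine ⟨z, ⟨hz, (MulAut.conj g).injective ?_⟩, rfl⟩
    rw [map_one, map_pow]; exact h2

variable [Fintype K] [CharP K 2]

theorem Hyp.exists_pow (h : Hyp G K q) (hF : Fintype.card K = q ^ 2) :
    ∃ n, 2 ≤ n ∧ q = 2 ^ n := by
  obtain ⟨m, -, hm⟩ := FiniteField.card K 2
  obtain ⟨n, -, hn⟩ := (Nat.dvd_prime_pow Nat.prime_two).1
    (show q ∣ 2 ^ (m : ℕ) from ⟨q, by rw [← hm, hF, pow_two]⟩)
  refine ⟨n, ?_, hn⟩
  by_contra h2
  have := h.two_lt
  interval_cases n <;> simp_all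

theorem Hyp.even_q (h : Hyp G K q) (hF : Fintype.card K = q ^ 2) : Even q := by
  obtain ⟨n, hn, rfl⟩ := h.exists_pow hF
  exact Nat.even_pow.2 ⟨even_two, by omega⟩

namespace Hyp

variable (h : Hyp G K q) (hF : Fintype.card K = q ^ 2)
include h hF

theorem mem_rad {x g : G} (hx : orderOf x = 2) :
    g ∈ rad x ↔ g ∈ Subgroup.centralizer ({x} : Set G) ∧ g ^ 4 = 1 := by
  obtain ⟨C⟩ := h.coord x hx
  refine ⟨fun hg => ?_, fun hg => Subgroup.subset_closure hg⟩
  have hle : rad x ≤ C.ker.map (Subgroup.centralizer ({x} : Set G)).subtype :=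
    (Subgroup.closure_le _).2 fun z hz =>
      ⟨⟨z, hz.1⟩, (C.mem_ker_iff_pow hF).2 (Subtype.ext hz.2), rfl⟩
  obtain ⟨z, hz, rfl⟩ := Subgroup.mem_map.1 (hle hg)
  exact ⟨z.2, congrArg Subtype.val ((C.mem_ker_iff_pow hF).1 hz)⟩

theorem card_rad {x : G} (hx : orderOf x = 2) : Nat.card (rad x) = q ^ 3 := by
  obtain ⟨C⟩ := h.coord x hx
  rw [← C.card_ker hF]
  refine Nat.card_congr
    { toFun := fun g => ⟨⟨g.1, ((h.mem_rad hF hx).1 g.2).1⟩,
        (C.mem_ker_iff_pow hF).2 (Subtype.ext ((h.mem_rad hF hx).1 g.2).2)⟩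
      invFun := fun g => ⟨g.1.1,
        (h.mem_rad hF hx).2 ⟨g.1.2, congrArg Subtype.val ((C.mem_ker_iff_pow hF).1 g.2)⟩⟩
      left_inv := fun g => rfl
      right_inv := fun g => rfl }

theorem card_cent {x : G} (hx : orderOf x = 2) :
    Nat.card ↥(Subgroup.centralizer ({x} : Set G)) = q ^ 3 * (q + 1) := by
  obtain ⟨C⟩ := h.coord x hx
  exact C.card_eq hF

theorem self_mem_rad {x : G} (hx : orderOf x = 2) : x ∈ rad x :=
  (h.mem_rad hF hx).2 ⟨mem_cent.2 rfl, by
    rw [show (4 : ℕ) = 2 * 2 from rfl, pow_mul, ← hx, pow_orderOf_eq_one, one_pow]⟩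

/-- Elements of square one in a centraliser are central in it. -/
theorem central {x z g : G} (hx : orderOf x = 2) (hz : z ∈ Subgroup.centralizer ({x} : Set G))
    (hg : g ∈ Subgroup.centralizer ({x} : Set G)) (hz2 : z * z = 1) : g * z = z * g := by
  obtain ⟨C⟩ := h.coord x hx
  obtain ⟨h1, h2⟩ := C.coords_of_mul_self hF (g := ⟨z, hz⟩) (Subtype.ext hz2)
  exact congrArg Subtype.val (C.central_of_coords hF h1 h2 ⟨g, hg⟩)

theorem mem_rad_of_mul_self {x z : G} (hx : orderOf x = 2)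
    (hz : z ∈ Subgroup.centralizer ({x} : Set G)) (hz2 : z * z = 1) : z ∈ rad x :=
  (h.mem_rad hF hx).2 ⟨hz, by rw [show (4 : ℕ) = 2 * 2 from rfl, pow_mul, pow_two z, hz2, one_pow]⟩

theorem cent_eq [Finite G] {x y : G} (hx : orderOf x = 2) (hy : orderOf y = 2)
    (hxy : y * x = x * y) :
    Subgroup.centralizer ({x} : Set G) = Subgroup.centralizer ({y} : Set G) := by
  refine Subgroup.eq_of_le_of_card_ge (fun g hg => mem_cent.2 ?_) ?_
  · exact h.central hF hx (mem_cent.2 hxy) hg (TwoFusionB.sq_eq_one_of_inv hy)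
  · rw [h.card_cent hF hx, h.card_cent hF hy]

theorem rad_eq [Finite G] {x y : G} (hx : orderOf x = 2) (hy : orderOf y = 2)
    (hxy : y * x = x * y) : rad x = rad y := by
  unfold rad; rw [h.cent_eq hF hx hy hxy]

theorem rad_eq_of_mem [Finite G] {x y : G} (hx : orderOf x = 2) (hy : orderOf y = 2)
    (hyx : y ∈ rad x) : rad y = rad x :=
  (h.rad_eq hF hx hy (mem_cent.1 ((h.mem_rad hF hx).1 hyx).1)).symm

theorem isPGroup_rad {x : G} (hx : orderOf x = 2) : IsPGroup 2 (rad x) :=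
  fun g => ⟨2, Subtype.ext ((h.mem_rad hF hx).1 g.2).2⟩

/-- The Sylow property. -/
theorem exists_sylow [Finite G] {x : G} (hx : orderOf x = 2) :
    ∃ P : Sylow 2 G, (P : Subgroup G) = rad x := by
  have : Fact (Nat.Prime 2) := ⟨Nat.prime_two⟩
  obtain ⟨P, hP⟩ := (h.isPGroup_rad hF hx).exists_le_sylow
  refine ⟨P, le_antisymm (fun g hg => ?_) hP⟩
  have hxP := hP (h.self_mem_rad hF hx)
  have : Nontrivial (P : Subgroup G) :=
    ⟨⟨⟨x, hxP⟩, 1, fun e => TwoFusionB.ne_one_of_inv hx (congrArg Subtype.val e)⟩⟩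
  have hnt : Nontrivial (Subgroup.center (P : Subgroup G)) := P.2.center_nontrivial
  obtain ⟨z, hz⟩ := exists_ne (1 : Subgroup.center (P : Subgroup G))
  obtain ⟨y, hy, hy2⟩ : ∃ y : Subgroup.center (P : Subgroup G), y ≠ 1 ∧ y * y = 1 := by
    have h2 : 2 ∣ Nat.card (Subgroup.center (P : Subgroup G)) := by
      obtain ⟨m, hm⟩ := IsPGroup.iff_card.1 (P.2.to_subgroup (Subgroup.center (P : Subgroup G)))
      rcases Nat.eq_zero_or_pos m with rfl | hm0
      · rw [pow_zero, Nat.card_eq_one_iff_unique] at hm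
        exact absurd (hm.1.elim z 1) hz
      · rw [hm]; exact dvd_pow_self 2 hm0.ne'
    obtain ⟨y, hy⟩ := exists_prime_orderOf_dvd_card' 2 h2
    exact ⟨y, fun e => by rw [e, orderOf_one] at hy; simp at hy,
      by have h1 := pow_orderOf_eq_one y; rw [hy, pow_two] at h1; exact h1⟩
  have hyo : orderOf ((y : (P : Subgroup G)) : G) = 2 :=
    orderOf_eq_two (fun e => hy (Subtype.ext (Subtype.ext e)))
      (congrArg (fun w : Subgroup.center (P : Subgroup G) => ((w : (P : Subgroup G)) : G)) hy2)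
  have hall : ∀ w ∈ (P : Subgroup G), w * ((y : (P : Subgroup G)) : G) =
      ((y : (P : Subgroup G)) : G) * w := fun w hw =>
    congrArg Subtype.val (Subgroup.mem_center_iff.1 y.2 ⟨w, hw⟩)
  have hgC : g ∈ Subgroup.centralizer ({x} : Set G) := by
    rw [h.cent_eq hF hx hyo (hall x hxP).symm]
    exact mem_cent.2 (hall g hg)
  obtain ⟨C⟩ := h.coord x hx
  obtain ⟨j, hj⟩ := P.2 ⟨g, hg⟩
  have hM : C.M ⟨g, hgC⟩ ^ 2 ^ j = 1 := by
    have he : (⟨g, hgC⟩ : Subgroup.centralizer ({x} : Set G)) ^ 2 ^ j = 1 :=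
      Subtype.ext (by simpa using congrArg Subtype.val hj)
    have := congrArg C.Mhom he
    rw [map_pow, map_one] at this
    exact this
  rw [h.mem_rad hF hx]
  refine ⟨hgC, congrArg Subtype.val ((C.mem_ker_iff_pow hF (g := ⟨g, hgC⟩)).1 (C.mem_ker.2 ?_))⟩
  have h0 : (C.M ⟨g, hgC⟩ - 1) ^ 2 ^ j = 0 := by
    rw [sub_pow_char_pow, one_pow, hM, sub_self]
  exact sub_eq_zero.1 (pow_eq_zero_iff (by positivity) |>.1 h0)

/-- The Sylow 2-subgroups meet trivially. -/
theorem rad_ti [Finite G] {x y g : G} (hx : orderOf x = 2) (hy : orderOf y = 2) (hgx : g ∈ rad x)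
    (hgy : g ∈ rad y) (hg : g ≠ 1) : rad x = rad y := by
  have h4 := ((h.mem_rad hF hx).1 hgx).2
  obtain ⟨z, hz1, hz2, hzx, hzy⟩ : ∃ z, z ≠ 1 ∧ z * z = 1 ∧ z ∈ rad x ∧ z ∈ rad y := by
    by_cases h2 : g * g = 1
    · exact ⟨g, hg, h2, hgx, hgy⟩
    · exact ⟨g * g, h2, by rw [← h4]; simp [pow_succ, mul_assoc], mul_mem hgx hgx,
        mul_mem hgy hgy⟩
  have hzo := orderOf_eq_two hz1 hz2
  rw [← h.rad_eq_of_mem hF hx hzo hzx, h.rad_eq_of_mem hF hy hzo hzy]

theorem mem_hgrp_iff [Finite G] {x g : G} (hx : orderOf x = 2) :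
    g ∈ hgrp x ↔ rad (g * x * g⁻¹) = rad x := by
  rw [← rad_conj, hgrp, Subgroup.mem_normalizer_iff]
  constructor
  · intro hg
    ext y
    rw [Subgroup.mem_map]
    constructor
    · rintro ⟨z, hz, rfl⟩
      exact (hg z).1 hz
    · intro hy
      exact ⟨g⁻¹ * y * g, (hg _).2 (by simpa [mul_assoc] using hy), by simp [mul_assoc]⟩
  · intro e z
    constructor
    · intro hz; rw [← e]; exact Subgroup.mem_map_of_mem _ hz
    · intro hz
      rw [← e, Subgroup.mem_map] at hz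
      obtain ⟨w, hw, hwe⟩ := hz
      rwa [← (MulAut.conj g).injective hwe]

theorem cent_le_hgrp [Finite G] {x : G} (hx : orderOf x = 2) :
    Subgroup.centralizer ({x} : Set G) ≤ hgrp x := fun g hg => by
  rw [h.mem_hgrp_iff hF hx, show g * x * g⁻¹ = x by rw [mem_cent.1 hg, mul_inv_cancel_right]]

theorem rad_le_hgrp [Finite G] {x : G} : rad x ≤ hgrp x :=
  Subgroup.le_normalizer

/-- The involutions of the normaliser lie in the Sylow subgroup. -/
theorem inv_mem_rad [Finite G] {x y : G} (hx : orderOf x = 2) (hy : orderOf y = 2)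
    (hyH : y ∈ hgrp x) : y ∈ rad x := by
  have : Fact (Nat.Prime 2) := ⟨Nat.prime_two⟩
  obtain ⟨P, hP⟩ := h.exists_sylow hF hx
  have hp : IsPGroup 2 (Subgroup.zpowers y) :=
    IsPGroup.of_card (n := 1) (by rw [Nat.card_zpowers, hy, pow_one])
  have hle : Subgroup.zpowers y ≤ Subgroup.zpowers y ⊓ Subgroup.normalizer (P : Set G) :=
    le_inf le_rfl (by
      rw [Subgroup.zpowers_le]
      show y ∈ Subgroup.normalizer ((P : Subgroup G) : Set G)
      rw [hP]; exact hyH)
  rw [hp.inf_normalizer_sylow P] at hle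
  have := (hle (Subgroup.mem_zpowers y)).2
  rwa [SetLike.mem_coe, hP] at this

theorem stronglyEmbedded [Finite G] {x : G} (hx : orderOf x = 2) :
    Cfsg.IsStronglyEmbedded (hgrp x) := by
  obtain ⟨P, hP⟩ := h.exists_sylow hF hx
  refine ⟨fun e => h.not_normal P ?_, TwoFusionB.even_card_of_mem_inv hx
    (h.cent_le_hgrp hF hx (mem_cent.2 rfl)), fun g hg => ?_⟩
  · rw [hP]; exact Subgroup.normalizer_eq_top_iff.1 e
  · by_contra hev
    rw [Nat.not_odd_iff_even, even_iff_two_dvd] at hev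
    obtain ⟨⟨y, hy1, hy2⟩, hy⟩ := exists_prime_orderOf_dvd_card' 2 hev
    replace hy : orderOf y = 2 := (Subgroup.orderOf_coe _).trans hy
    obtain ⟨z, hzH, rfl⟩ := Subgroup.mem_map.1 hy2
    have hz : orderOf z = 2 := by
      rw [← hy]; exact (orderOf_injective _ (MulAut.conj g).injective z).symm
    apply hg
    have e1 := h.rad_eq_of_mem hF hx hz (h.inv_mem_rad hF hx hz hzH)
    have e2 := h.rad_eq_of_mem hF hx hy (h.inv_mem_rad hF hx hy hy1)
    rw [h.mem_hgrp_iff hF hx, ← rad_conj]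
    conv_lhs => rw [← e1, rad_conj]
    exact e2

theorem card_inv_hgrp [Finite G] {x : G} (hx : orderOf x = 2) :
    Nat.card {y : G // orderOf y = 2 ∧ y ∈ hgrp x} = q - 1 := by
  classical
  obtain ⟨C⟩ := h.coord x hx
  have hd := C.card_sq_one hF
  have e : {y : G // orderOf y = 2 ∧ y ∈ hgrp x} ≃
      {g : {g : Subgroup.centralizer ({x} : Set G) // g * g = 1} // g ≠ ⟨1, one_mul 1⟩} :=
    { toFun := fun y => ⟨⟨⟨y.1, ((h.mem_rad hF hx).1 (h.inv_mem_rad hF hx y.2.1 y.2.2)).1⟩,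
          Subtype.ext (TwoFusionB.sq_eq_one_of_inv y.2.1)⟩,
          fun e => TwoFusionB.ne_one_of_inv y.2.1 (congrArg (fun g => ((g.1 : _) : G)) e)⟩
      invFun := fun g => ⟨g.1.1.1, orderOf_eq_two
          (fun e => g.2 (Subtype.ext (Subtype.ext e))) (congrArg Subtype.val g.1.2),
          h.cent_le_hgrp hF hx g.1.1.2⟩
      left_inv := fun y => rfl
      right_inv := fun g => rfl }
  have : Fintype {g : Subgroup.centralizer ({x} : Set G) // g * g = 1} := Fintype.ofFinite _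
  rw [Nat.card_congr e, Nat.card_eq_fintype_card, Fintype.card_subtype_compl,
    Fintype.card_subtype_eq, ← Nat.card_eq_fintype_card, hd]

/-- The involutions of the normaliser are conjugate in it. -/
theorem exists_conj_mem [Finite G] {x y : G} (hx : orderOf x = 2) (hy : orderOf y = 2)
    (hyH : y ∈ hgrp x) : ∃ g ∈ hgrp x, g * x * g⁻¹ = y := by
  obtain ⟨g, hg⟩ := isConj_iff.1 (h.conj x y hx hy)
  exact ⟨g, by rw [h.mem_hgrp_iff hF hx, hg]
               exact h.rad_eq_of_mem hF hx hy (h.inv_mem_rad hF hx hy hyH), hg⟩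

theorem card_hgrp [Finite G] {x : G} (hx : orderOf x = 2) :
    Nat.card (hgrp x) = (q - 1) * (q ^ 3 * (q + 1)) := by
  classical
  have hxH : x ∈ hgrp x := h.cent_le_hgrp hF hx (mem_cent.2 rfl)
  let C' := (Subgroup.centralizer ({x} : Set G)).subgroupOf (hgrp x)
  have key : ∀ a b : hgrp x, a⁻¹ * b ∈ C' ↔ (a : G) * x * (a : G)⁻¹ = b * x * (b : G)⁻¹ := by
    intro a b
    rw [Subgroup.mem_subgroupOf, mem_cent, Subgroup.coe_mul, Subgroup.coe_inv]
    constructor
    · intro e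
      calc (a : G) * x * (a : G)⁻¹ = a * (x * ((a : G)⁻¹ * b)) * (b : G)⁻¹ := by group
        _ = a * ((a : G)⁻¹ * b * x) * (b : G)⁻¹ := by rw [e]
        _ = b * x * (b : G)⁻¹ := by group
    · intro e
      calc (a : G)⁻¹ * b * x = (a : G)⁻¹ * (b * x * (b : G)⁻¹) * b := by group
        _ = (a : G)⁻¹ * (a * x * (a : G)⁻¹) * b := by rw [e]
        _ = x * ((a : G)⁻¹ * b) := by group
  let f : hgrp x ⧸ C' → {y : G // orderOf y = 2 ∧ y ∈ hgrp x} := Quotient.lift
    (fun a : hgrp x => ⟨(a : G) * x * (a : G)⁻¹, by rw [TwoFusionB.orderOf_conj_eq, hx],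
      mul_mem (mul_mem a.2 hxH) (inv_mem a.2)⟩)
    fun a b e => Subtype.ext ((key a b).1 (QuotientGroup.leftRel_apply.1 e))
  have hf : Function.Bijective f := by
    constructor
    · intro a b e
      induction a using QuotientGroup.induction_on with
      | _ a =>
      induction b using QuotientGroup.induction_on with
      | _ b => exact QuotientGroup.eq.2 ((key a b).2 (congrArg Subtype.val e))
    · rintro ⟨y, hy, hyH⟩
      obtain ⟨g, hg, he⟩ := h.exists_conj_mem hF hx hy hyH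
      exact ⟨(⟨g, hg⟩ : hgrp x), Subtype.ext he⟩
  rw [Subgroup.card_eq_card_quotient_mul_card_subgroup C', Nat.card_eq_of_bijective f hf,
    h.card_inv_hgrp hF hx, Nat.card_congr (Subgroup.subgroupOfEquivOfLe (h.cent_le_hgrp hF hx)).toEquiv,
    h.card_cent hF hx]

end Hyp

end Cfsg.Agent.PGURec18
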