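import Mathlib
import Cfsg.Agent.PGURec18.Rad

/-!
The two-point stabiliser: `H / C(x)` is abelian and acts linearly, so the torus coordinate of `C(x)`
is invariant under `H` (helper18).
-/

set_option autoImplicit false

namespace Cfsg.Agent.PGURec18

open Cfsg.Agent.Unitary MulAction

universe u v

/-- The two-point stabiliser of `H` and `tH`, for an involution `t`. -/
def torus {G : Type u} [Group G] (x t : G) : Subgroup G where
  carrier := {d | d ∈ hgrp x ∧ t * d * t⁻¹ ∈ hgrp x}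
  one_mem' := ⟨one_mem _, by simp⟩
  mul_mem' := fun {a b} ha hb => ⟨mul_mem ha.1 hb.1, by
    rw [show t * (a * b) * t⁻¹ = t * a * t⁻¹ * (t * b * t⁻¹) by group]
    exact mul_mem ha.2 hb.2⟩
  inv_mem' := fun {a} ha => ⟨inv_mem ha.1, by
    rw [show t * a⁻¹ * t⁻¹ = (t * a * t⁻¹)⁻¹ by group]
    exact inv_mem ha.2⟩

variable {G : Type u} [Group G] [Finite G] {K : Type v} [Field K] [Fintype K] [CharP K 2] {q : ℕ}

theorem torus_eq_stab {x t : G} (ht : orderOf t = 2) :
    stabilizer G (QuotientGroup.mk 1 : G ⧸ hgrp x) ⊓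
      stabilizer G (QuotientGroup.mk t : G ⧸ hgrp x) = torus x t := by
  ext d
  rw [Subgroup.mem_inf, mem_stabilizer_iff, mem_stabilizer_iff, TwoFusionB.smul_one_eq_iff,
    TwoFusionB.smul_mk_eq_iff]
  show _ ↔ _ ∧ _
  rw [TwoFusionB.inv_eq_of_inv ht]

/-- Conjugation by elements of odd order cannot invert. -/
theorem eq_one_of_inverted {d e : G} (he : Odd (orderOf e)) (hd : Odd (orderOf d))
    (h : e * d * e⁻¹ = d⁻¹) : d = 1 := by
  have key : ∀ k : ℕ, e ^ (2 * k) * d * (e ^ (2 * k))⁻¹ = d := by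
    intro k
    induction k with
    | zero => simp
    | succ k ih =>
      have h2 : e * d⁻¹ * e⁻¹ = d := by rw [show e * d⁻¹ * e⁻¹ = (e * d * e⁻¹)⁻¹ by group, h, inv_inv]
      calc e ^ (2 * (k + 1)) * d * (e ^ (2 * (k + 1)))⁻¹
          = e * (e * (e ^ (2 * k) * d * (e ^ (2 * k))⁻¹) * e⁻¹) * e⁻¹ := by
            rw [show 2 * (k + 1) = 1 + 1 + 2 * k by omega, pow_add, pow_add, pow_one]; group
        _ = d := by rw [ih, h, h2]
  obtain ⟨k, hk⟩ := he
  have h1 := key k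
  have h2 : e * (e ^ (2 * k) * d * (e ^ (2 * k))⁻¹) * e⁻¹ = d := by
    rw [show e * (e ^ (2 * k) * d * (e ^ (2 * k))⁻¹) * e⁻¹ =
      e ^ (2 * k + 1) * d * (e ^ (2 * k + 1))⁻¹ by rw [pow_succ']; group]
    rw [← hk, pow_orderOf_eq_one, inv_one, one_mul, mul_one]
  rw [h1, h] at h2
  have h3 : d ^ 2 = 1 := by
    have := congrArg (fun z => z * d) h2
    simp only [inv_mul_cancel] at this
    rw [pow_two, ← this]
  exact orderOf_eq_one_iff.1
    (Nat.Coprime.eq_one_of_dvd (Nat.coprime_two_right.2 hd) (orderOf_dvd_of_pow_eq_one h3))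

namespace Hyp

variable (h : Hyp G K q) (hF : Fintype.card K = q ^ 2)
variable {x t : G} (hx : orderOf x = 2) (ht : orderOf t = 2) (htH : t ∉ hgrp x)
include h hF hx ht htH

theorem torus_conj {d : G} (hd : d ∈ torus x t) : t * d * t ∈ torus x t := by
  have e := TwoFusionB.inv_eq_of_inv ht
  have e2 := TwoFusionB.sq_eq_one_of_inv ht
  refine ⟨by simpa [e] using hd.2, ?_⟩
  rw [e, show t * (t * d * t) * t = (t * t) * d * (t * t) by group, e2]
  simpa using hd.1

theorem odd_torus : Odd (Nat.card (torus x t)) := by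
  by_contra hev
  rw [Nat.not_odd_iff_even, even_iff_two_dvd] at hev
  obtain ⟨⟨y, hy1, hy2⟩, hy⟩ := exists_prime_orderOf_dvd_card' 2 hev
  replace hy : orderOf y = 2 := (Subgroup.orderOf_coe _).trans hy
  have hSE := h.stronglyEmbedded hF hx
  refine htH ?_
  have := TwoFusionB.fix_unique hSE hy (x := (QuotientGroup.mk 1 : G ⧸ hgrp x))
    (y := (QuotientGroup.mk t : G ⧸ hgrp x)) (TwoFusionB.smul_one_eq_iff.2 hy1)
    (TwoFusionB.smul_mk_eq_iff.2 (by
      have e := TwoFusionB.inv_eq_of_inv ht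
      rw [e] at hy2 ⊢
      exact hy2))
  simpa using QuotientGroup.eq.1 this

theorem odd_orderOf_torus {d : G} (hd : d ∈ torus x t) : Odd (orderOf d) :=
  (h.odd_torus hF hx ht htH).of_dvd_nat ((torus x t).orderOf_dvd_natCard hd)

/-- The number of inverted elements. -/
theorem card_inverted :
    Nat.card {d : G // d ∈ torus x t ∧ t * d * t = d⁻¹} = q - 1 := by
  have hSE := h.stronglyEmbedded hF hx
  have e := TwoFusionB.inv_eq_of_inv ht
  have e2 := TwoFusionB.sq_eq_one_of_inv ht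
  set a : G ⧸ hgrp x := QuotientGroup.mk 1 with ha
  set b : G ⧸ hgrp x := QuotientGroup.mk t with hb
  have hab : a ≠ b := fun e' => htH (by simpa using QuotientGroup.eq.1 e')
  have hta : t • a = b := by rw [ha, hb, Quotient.smul_mk, smul_eq_mul, mul_one]
  have htb : t • b = a := TwoFusionB.smul_swap ht hta
  have hD : ∀ d, d ∈ torus x t ↔ d • a = a ∧ d • b = b := fun d => by
    rw [← torus_eq_stab ht]; exact Iff.rfl
  rw [← h.card_inv_hgrp hF hx, ← TwoFusionB.card_fixInv_one, ← TwoFusionB.card_moveInv hSE hab]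
  refine Nat.card_congr
    { toFun := fun d => ⟨t * d.1, orderOf_eq_two ?_ ?_, ?_⟩
      invFun := fun w => ⟨t * w.1, (hD _).2 ⟨?_, ?_⟩, ?_⟩
      left_inv := fun d => Subtype.ext (by simp [← mul_assoc, e2])
      right_inv := fun w => Subtype.ext (by simp [← mul_assoc, e2]) }
  · intro h1
    exact htH (by
      have : d.1 = t⁻¹ := eq_inv_of_mul_eq_one_right h1
      rw [e] at this
      exact this ▸ d.2.1.1)
  · rw [← mul_assoc, d.2.2, inv_mul_cancel]
  · rw [mul_smul, ((hD _).1 d.2.1).1, hta]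
  · rw [mul_smul, w.2.2, htb]
  · rw [mul_smul, TwoFusionB.smul_swap w.2.1 w.2.2, hta]
  · calc t * (t * w.1) * t = (t * t) * (w.1 * t) := by group
      _ = (t * w.1)⁻¹ := by rw [e2, one_mul, mul_inv_rev, e, TwoFusionB.inv_eq_of_inv w.2.1]

/-- `D ∩ C(x)` is cut out by the exponent `q + 1`. -/
theorem mem_cent_iff_pow {d : G} (hd : d ∈ torus x t) :
    d ∈ Subgroup.centralizer ({x} : Set G) ↔ d ^ (q + 1) = 1 := by
  have hodd := h.odd_orderOf_torus hF hx ht htH hd
  constructor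
  · intro hc
    obtain ⟨C⟩ := h.coord x hx
    have h1 : C.M ((⟨d, hc⟩ : Subgroup.centralizer ({x} : Set G)) ^ (q + 1)) = 1 :=
      (map_pow C.Mhom _ _).trans (C.norm_M _)
    have h4 : (d ^ (q + 1)) ^ 4 = 1 := by
      simpa using congrArg Subtype.val ((C.mem_ker_iff_pow hF).1 (C.mem_ker.2 h1))
    have := orderOf_dvd_of_pow_eq_one h4
    rw [← orderOf_eq_one_iff]
    refine Nat.eq_one_of_dvd_coprimes ?_ this dvd_rfl
    rw [show (4 : ℕ) = 2 ^ 2 by norm_num]
    exact (Nat.coprime_two_left.2 (hodd.of_dvd_nat (orderOf_pow_dvd _))).pow_left 2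
  · intro hp
    have hxH : x ∈ hgrp x := h.cent_le_hgrp hF hx (mem_cent.2 rfl)
    have hle := h.cent_le_hgrp hF hx
    have hn : ((Subgroup.centralizer ({x} : Set G)).subgroupOf (hgrp x)).Normal := by
      refine ⟨fun c hc g => ?_⟩
      rw [Subgroup.mem_subgroupOf] at hc ⊢
      have hy : orderOf ((g : G) * x * (g : G)⁻¹) = 2 := by rw [TwoFusionB.orderOf_conj_eq, hx]
      have hyr : (g : G) * x * (g : G)⁻¹ ∈ rad x :=
        h.inv_mem_rad hF hx hy (mul_mem (mul_mem g.2 hxH) (inv_mem g.2))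
      rw [h.cent_eq hF hx hy (mem_cent.1 ((h.mem_rad hF hx).1 hyr).1), ← cent_conj]
      exact Subgroup.mem_map_of_mem _ hc
    have hidx : ((Subgroup.centralizer ({x} : Set G)).subgroupOf (hgrp x)).index = q - 1 := by
      have h1 := Subgroup.card_mul_index
        ((Subgroup.centralizer ({x} : Set G)).subgroupOf (hgrp x))
      rw [Nat.card_congr (Subgroup.subgroupOfEquivOfLe hle).toEquiv, h.card_cent hF hx,
        h.card_hgrp hF hx, mul_comm (q - 1)] at h1
      exact Nat.eq_of_mul_eq_mul_left (by have := h.two_lt; positivity) h1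
    have hq1 : d ^ (q - 1) ∈ Subgroup.centralizer ({x} : Set G) := by
      have := Subgroup.pow_index_mem
        ((Subgroup.centralizer ({x} : Set G)).subgroupOf (hgrp x)) ⟨d, hd.1⟩
      rw [hidx, Subgroup.mem_subgroupOf] at this
      simpa using this
    have h2 : d ^ 2 ∈ Subgroup.centralizer ({x} : Set G) := by
      have : d ^ 2 = (d ^ (q - 1))⁻¹ := by
        refine eq_inv_of_mul_eq_one_left ?_
        rw [← pow_add, show 2 + (q - 1) = q + 1 by have := h.two_lt; omega, hp]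
      rw [this]; exact inv_mem hq1
    obtain ⟨k, hk⟩ := hodd
    have : d = ((d ^ 2) ^ k)⁻¹ := by
      refine eq_inv_of_mul_eq_one_left ?_
      rw [← pow_mul, ← pow_succ', ← hk, pow_orderOf_eq_one]
    rw [this]
    exact inv_mem (pow_mem h2 k)

theorem eq_one_of_inverted_cent {d : G} (hd : d ∈ torus x t)
    (hc : d ∈ Subgroup.centralizer ({x} : Set G)) (hi : t * d * t = d⁻¹) : d = 1 := by
  have hSE := h.stronglyEmbedded hF hx
  have hxH : x ∈ hgrp x := h.cent_le_hgrp hF hx (mem_cent.2 rfl)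
  obtain ⟨y, hy⟩ := TwoFusionB.exists_fix hSE ht
  have hne : y ≠ (QuotientGroup.mk 1 : G ⧸ hgrp x) := fun e =>
    htH (TwoFusionB.smul_one_eq_iff.1 (e ▸ hy))
  obtain ⟨k, hk⟩ := TwoFusionB.odd_orderOf_mul hSE ht hx hy
    (TwoFusionB.smul_one_eq_iff.2 hxH) hne
  have et := TwoFusionB.inv_eq_of_inv ht
  have ex := TwoFusionB.inv_eq_of_inv hx
  have ex2 := TwoFusionB.sq_eq_one_of_inv hx
  set m := t * x with hm
  set g := m ^ (k + 1) with hg
  have hmx : x * m * x⁻¹ = m⁻¹ := by rw [hm, mul_inv_rev, et, ex]; simp [← mul_assoc, mul_assoc, ex2]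
  have hxg : x * g⁻¹ = g * x := by
    have : x * g * x⁻¹ = g⁻¹ := by
      rw [hg, ← MulAut.conj_apply, map_pow, MulAut.conj_apply, hmx, inv_pow]
    rw [← this, ex]; simp [← mul_assoc, ex2]
  have hgt : g * x * g⁻¹ = t := by
    rw [mul_assoc, hxg, ← mul_assoc, hg, ← pow_add, show k + 1 + (k + 1) = 2 * k + 1 + 1 by omega,
      pow_succ, ← hk, pow_orderOf_eq_one, one_mul, hm, mul_assoc, ex2, mul_one]
  have hxd : x * d * x⁻¹ = d := by rw [← mem_cent.1 hc, mul_inv_cancel_right]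
  have hmd : ∀ j : ℕ, m ^ j * d * (m ^ j)⁻¹ = d ∨ m ^ j * d * (m ^ j)⁻¹ = d⁻¹ := by
    intro j
    have h1 : m * d * m⁻¹ = d⁻¹ := by
      rw [hm, mul_inv_rev, show t * x * d * (x⁻¹ * t⁻¹) = t * (x * d * x⁻¹) * t⁻¹ by group, hxd, et,
        hi]
    induction j with
    | zero => left; simp
    | succ j ih =>
      rw [pow_succ', show m * m ^ j * d * (m * m ^ j)⁻¹ = m * (m ^ j * d * (m ^ j)⁻¹) * m⁻¹ by group]
      rcases ih with e | e <;> rw [e]
      · exact Or.inr h1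
      · left; rw [show m * d⁻¹ * m⁻¹ = (m * d * m⁻¹)⁻¹ by group, h1, inv_inv]
  have htd : ∀ z, z = g * d * g⁻¹ → t * z * t⁻¹ = z := by
    rintro z rfl
    rw [← hgt, show g * x * g⁻¹ * (g * d * g⁻¹) * (g * x * g⁻¹)⁻¹ = g * (x * d * x⁻¹) * g⁻¹ by
      group, hxd]
  have hdd : d⁻¹ = d := by
    rcases hmd (k + 1) with e | e
    · have := htd _ e.symm
      rwa [et, hi] at this
    · have := htd _ e.symm
      rw [show t * d⁻¹ * t⁻¹ = (t * d * t⁻¹)⁻¹ by group, et, hi, inv_inv] at this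
      exact this.symm
  refine orderOf_eq_one_iff.1 (Nat.Coprime.eq_one_of_dvd
    (Nat.coprime_two_right.2 (h.odd_orderOf_torus hF hx ht htH hd)) (orderOf_dvd_of_pow_eq_one ?_))
  rw [pow_two]; nth_rewrite 1 [← hdd]; rw [inv_mul_cancel]

theorem fixed_of_cent {d : G} (hd : d ∈ torus x t)
    (hc : d ∈ Subgroup.centralizer ({x} : Set G)) : t * d * t = d := by
  have hdd := h.torus_conj hF hx ht htH hd
  have e2 := TwoFusionB.sq_eq_one_of_inv ht
  have et := TwoFusionB.inv_eq_of_inv ht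
  have hc' : t * d * t ∈ Subgroup.centralizer ({x} : Set G) := by
    rw [h.mem_cent_iff_pow hF hx ht htH hdd]
    have : t * d * t = MulAut.conj t d := by rw [MulAut.conj_apply, et]
    rw [this, ← map_pow, (h.mem_cent_iff_pow hF hx ht htH hd).1 hc, map_one]
  have hmem : d⁻¹ * (t * d * t) ∈ torus x t := mul_mem (inv_mem hd) hdd
  have := h.eq_one_of_inverted_cent hF hx ht htH hmem (mul_mem (inv_mem hc) hc') (by
    rw [mul_inv_rev, inv_inv]
    calc t * (d⁻¹ * (t * d * t)) * t = t * d⁻¹ * t * d * (t * t) := by group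
      _ = (t * d * t)⁻¹ * d := by rw [e2, mul_one, mul_inv_rev, mul_inv_rev, et]; group)
  exact inv_mul_eq_one.1 this |>.symm

theorem inverted_unique {i j : G} (hi : i ∈ torus x t) (hi' : t * i * t = i⁻¹) (hj : j ∈ torus x t)
    (hj' : t * j * t = j⁻¹) (hc : i⁻¹ * j ∈ Subgroup.centralizer ({x} : Set G)) : i = j := by
  have hd : i⁻¹ * j ∈ torus x t := mul_mem (inv_mem hi) hj
  have h1 := h.fixed_of_cent hF hx ht htH hd hc
  have e2 := TwoFusionB.sq_eq_one_of_inv ht
  have et := TwoFusionB.inv_eq_of_inv ht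
  have h2 : t * (i⁻¹ * j) * t = i * j⁻¹ := by
    calc t * (i⁻¹ * j) * t = (t * i * t)⁻¹ * (t * j * t) := by
          rw [mul_inv_rev, mul_inv_rev, et]
          calc t * (i⁻¹ * j) * t = t * i⁻¹ * (t * t) * j * t := by rw [e2]; group
            _ = _ := by group
      _ = i * j⁻¹ := by rw [hi', hj', inv_inv]
  rw [h1] at h2
  have h3 : i⁻¹ * (i⁻¹ * j) * i⁻¹⁻¹ = (i⁻¹ * j)⁻¹ := by
    rw [inv_inv]
    calc i⁻¹ * (i⁻¹ * j) * i = i⁻¹ * (i * j⁻¹) * i := by rw [h2]
      _ = (i⁻¹ * j)⁻¹ := by group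
  have := eq_one_of_inverted (by rw [orderOf_inv]; exact h.odd_orderOf_torus hF hx ht htH hi)
    (h.odd_orderOf_torus hF hx ht htH hd) h3
  exact inv_mul_eq_one.1 this

/-- Every coset of `C(x)` in `H` contains an inverted element of `D`. -/
theorem exists_inverted {g : G} (hg : g ∈ hgrp x) :
    ∃ i ∈ torus x t, t * i * t = i⁻¹ ∧ i⁻¹ * g ∈ Subgroup.centralizer ({x} : Set G) := by
  have hxH : x ∈ hgrp x := h.cent_le_hgrp hF hx (mem_cent.2 rfl)
  let f : {d : G // d ∈ torus x t ∧ t * d * t = d⁻¹} → {y : G // orderOf y = 2 ∧ y ∈ hgrp x} :=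
    fun d => ⟨d.1 * x * d.1⁻¹, by rw [TwoFusionB.orderOf_conj_eq, hx],
      mul_mem (mul_mem d.2.1.1 hxH) (inv_mem d.2.1.1)⟩
  have hiff : ∀ a b : G, a * x * a⁻¹ = b * x * b⁻¹ ↔
      a⁻¹ * b ∈ Subgroup.centralizer ({x} : Set G) := by
    intro a b
    rw [mem_cent]
    constructor
    · intro e
      calc a⁻¹ * b * x = a⁻¹ * (b * x * b⁻¹) * b := by group
        _ = a⁻¹ * (a * x * a⁻¹) * b := by rw [e]
        _ = x * (a⁻¹ * b) := by group
    · intro e
      calc a * x * a⁻¹ = a * (x * (a⁻¹ * b)) * b⁻¹ := by group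
        _ = a * (a⁻¹ * b * x) * b⁻¹ := by rw [e]
        _ = b * x * b⁻¹ := by group
  have hinj : Function.Injective f := fun i j e => Subtype.ext
    (h.inverted_unique hF hx ht htH i.2.1 i.2.2 j.2.1 j.2.2
      ((hiff _ _).1 (congrArg Subtype.val e)))
  have hbij := hinj.bijective_of_nat_card_le (le_of_eq (by
    rw [h.card_inv_hgrp hF hx, h.card_inverted hF hx ht htH]))
  obtain ⟨i, hi⟩ := hbij.2 ⟨g * x * g⁻¹, by rw [TwoFusionB.orderOf_conj_eq, hx],
    mul_mem (mul_mem hg hxH) (inv_mem hg)⟩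
  exact ⟨i.1, i.2.1, i.2.2, (hiff _ _).1 (congrArg Subtype.val hi)⟩

/-- The inverted elements commute modulo `C(x)`. -/
theorem inverted_comm {i j : G} (hi : i ∈ torus x t) (hi' : t * i * t = i⁻¹) (hj : j ∈ torus x t)
    (hj' : t * j * t = j⁻¹) : i * j * x * (i * j)⁻¹ = j * i * x * (j * i)⁻¹ := by
  have hij := mul_mem hi hj
  obtain ⟨k, hk, hk', hc⟩ := h.exists_inverted hF hx ht htH hij.1
  set d := k⁻¹ * (i * j) with hd
  have h1 := h.fixed_of_cent hF hx ht htH (mul_mem (inv_mem hk) hij) hc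
  have e2 := TwoFusionB.sq_eq_one_of_inv ht
  have hdist : ∀ a b : G, t * (a * b) * t = t * a * t * (t * b * t) := fun a b => by
    calc t * (a * b) * t = t * a * (t * t) * b * t := by rw [e2]; group
      _ = _ := by group
  have h2 : (j * i)⁻¹ = k⁻¹ * d := by
    rw [mul_inv_rev, ← hi', ← hj', ← hdist, show i * j = k * d by rw [hd]; group, hdist, hk', h1]
  have hji : j * i = d⁻¹ * k := by rw [← inv_inv (j * i), h2, mul_inv_rev, inv_inv]
  have hij' : i * j = k * d := by rw [hd]; group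
  have hdx : d * x * d⁻¹ = x := by rw [mem_cent.1 hc, mul_inv_cancel_right]
  have hxH : x ∈ hgrp x := h.cent_le_hgrp hF hx (mem_cent.2 rfl)
  set y := k * x * k⁻¹ with hy
  have hyo : orderOf y = 2 := by rw [hy, TwoFusionB.orderOf_conj_eq, hx]
  have hyr : y ∈ rad x := h.inv_mem_rad hF hx hyo (mul_mem (mul_mem hk.1 hxH) (inv_mem hk.1))
  have hdy : d * y = y * d := h.central hF hx ((h.mem_rad hF hx).1 hyr).1 hc
    (TwoFusionB.sq_eq_one_of_inv hyo)
  rw [hij', hji]
  calc k * d * x * (k * d)⁻¹ = k * (d * x * d⁻¹) * k⁻¹ := by group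
    _ = y := by rw [hdx, hy]
    _ = d⁻¹ * (d * y) := by group
    _ = d⁻¹ * (y * d) := by rw [hdy]
    _ = d⁻¹ * k * x * (d⁻¹ * k)⁻¹ := by rw [hy]; group

/-- The torus coordinate is invariant under the inverted elements. -/
theorem M_conj_inverted (C : Coord ↥(Subgroup.centralizer ({x} : Set G)) K q) {i : G}
    (hi : i ∈ torus x t) (hi' : t * i * t = i⁻¹) {g g' : Subgroup.centralizer ({x} : Set G)}
    (hg : (g' : G) = i * g * i⁻¹) : C.M g' = C.M g := by
  classical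
  have hxH : x ∈ hgrp x := h.cent_le_hgrp hF hx (mem_cent.2 rfl)
  have hcH : ∀ b ∈ hgrp x, (Subgroup.centralizer ({x} : Set G)).map (MulAut.conj b).toMonoidHom =
      Subgroup.centralizer ({x} : Set G) := by
    intro b hb
    have hy : orderOf (b * x * b⁻¹) = 2 := by rw [TwoFusionB.orderOf_conj_eq, hx]
    have hyr : b * x * b⁻¹ ∈ rad x :=
      h.inv_mem_rad hF hx hy (mul_mem (mul_mem hb hxH) (inv_mem hb))
    rw [cent_conj, h.cent_eq hF hx hy (mem_cent.1 ((h.mem_rad hF hx).1 hyr).1)]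
  let Γ := Subgroup.centralizer ({x} : Set G)
  let I := {d : G // d ∈ torus x t ∧ t * d * t = d⁻¹}
  let α : I → (Γ ≃* Γ) := fun d => (((MulAut.conj d.1).subgroupMap Γ)).trans
    (MulEquiv.subgroupCongr (hcH d.1 d.2.1.1))
  have hα : ∀ (d : I) (z : Γ), ((α d z : Γ) : G) = d.1 * z * d.1⁻¹ := fun d z => rfl
  choose a τ ha hM hB using fun d : I => C.aut_semilinear hF (α d)
  -- the involution with `b = 1`
  obtain ⟨z₁, hz1, hz2, hz3⟩ := C.surj 0 1 1 (one_pow _)
    (by rw [one_pow, CharTwo.add_self_eq_zero, zero_pow (Nat.succ_ne_zero q)])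
  have hz₁ : z₁ * z₁ = 1 := C.mul_self_of_coords hF hz1 hz3
  have hz₁ne : z₁ ≠ 1 := fun e => one_ne_zero (α := K) (by rw [← hz2, e, C.B_one hF])
  have hz₁o : orderOf (z₁ : G) = 2 :=
    orderOf_eq_two (fun e => hz₁ne (Subtype.ext e)) (congrArg Subtype.val hz₁)
  let L : Subfield K := (RingHom.id K).eqLocusField (conjHom hF)
  have hL : ∀ c : K, c ∈ L ↔ c = c ^ q := fun c => Iff.rfl
  have hτL : ∀ (d : I) (c : K), c ∈ L → τ d c ∈ L := fun d c hc => by
    rw [hL] at hc ⊢; rw [← map_pow, ← hc]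
  let σ : I → L ≃+* L := fun d => RingEquiv.ofBijective
    (((τ d).toRingHom.comp L.subtype).codRestrict L fun c => hτL d c c.2)
    (Finite.injective_iff_bijective.1 (RingHom.injective _))
  have hσ : ∀ (d : I) (c : L), ((σ d c : L) : K) = τ d c := fun d c => rfl
  let A : I → L := fun d => ⟨a d ^ (q + 1), (norm_fixed hF (a d)).symm⟩
  have hA : ∀ d, C.B (α d z₁) = a d ^ (q + 1) := fun d => by
    rw [hB d z₁ hz₁, hz2, map_one, mul_one]
  have hzc : ∀ c : Γ, c * z₁ = z₁ * c := fun c => C.central_of_coords hF hz1 hz3 c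
  have hlin := sigma_eq_id_of_comm A σ
    (fun d e => pow_ne_zero _ (ha d) (congrArg Subtype.val e))
    (fun c hc => by
      obtain ⟨z, hzX, hzB, hzM⟩ := C.surj 0 (c : K) 1 (one_pow _) (by
        rw [← (hL c).1 c.2, CharTwo.add_self_eq_zero, zero_pow (Nat.succ_ne_zero q)])
      have hz : z * z = 1 := C.mul_self_of_coords hF hzX hzM
      have hzo : orderOf (z : G) = 2 := orderOf_eq_two (fun e => hc (Subtype.ext (by
        rw [← hzB, show z = 1 from Subtype.ext e, C.B_one hF]; rfl))) (congrArg Subtype.val hz)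
      obtain ⟨b, hb⟩ := isConj_iff.1 (h.conj _ _ hz₁o hzo)
      have hr1 : rad (z₁ : G) = rad x := (h.rad_eq hF hx hz₁o (mem_cent.1 z₁.2)).symm
      have hr2 : rad (z : G) = rad x := (h.rad_eq hF hx hzo (mem_cent.1 z.2)).symm
      have hbH : b ∈ hgrp x := by
        rw [h.mem_hgrp_iff hF hx, ← rad_conj, ← hr1, rad_conj, hb, hr2, hr1]
      obtain ⟨d, hd, hd', hdc⟩ := h.exists_inverted hF hx ht htH hbH
      refine ⟨⟨d, hd, hd'⟩, Subtype.ext ?_⟩
      show a _ ^ (q + 1) = _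
      rw [← hA, ← hzB]
      congr 1
      apply Subtype.ext
      rw [hα, ← hb]
      have e := congrArg Subtype.val (hzc ⟨d⁻¹ * b, hdc⟩)
      simp only [Subgroup.coe_mul] at e
      calc d * (z₁ : G) * d⁻¹ = d * ((z₁ : G) * (d⁻¹ * b)) * b⁻¹ := by group
        _ = d * (d⁻¹ * b * z₁) * b⁻¹ := by rw [← e]
        _ = b * z₁ * b⁻¹ := by group)
    (fun g₁ g₂ => by
      have h1 : ∀ g₁ g₂ : I, C.B (α g₁ (α g₂ z₁)) = a g₁ ^ (q + 1) * τ g₁ (a g₂ ^ (q + 1)) := by
        intro g₁ g₂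
        rw [hB g₁ _ (by rw [← map_mul, hz₁, map_one]), hA]
      apply Subtype.ext
      show a g₁ ^ (q + 1) * τ g₁ (a g₂ ^ (q + 1)) = a g₂ ^ (q + 1) * τ g₂ (a g₁ ^ (q + 1))
      rw [← h1, ← h1]
      congr 1
      apply Subtype.ext
      rw [hα, hα, hα, hα]
      -- both sides are conjugates of the central involution
      obtain ⟨b, hb⟩ := isConj_iff.1 (h.conj _ _ hx hz₁o)
      have hr1 : rad (z₁ : G) = rad x := (h.rad_eq hF hx hz₁o (mem_cent.1 z₁.2)).symm
      have hbH : b ∈ hgrp x := by rw [h.mem_hgrp_iff hF hx, hb, hr1]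
      obtain ⟨k, hk, hk', hkc⟩ := h.exists_inverted hF hx ht htH hbH
      have hkx : k * x * k⁻¹ = z₁ := by
        rw [← hb]
        have e := mem_cent.1 hkc
        calc k * x * k⁻¹ = k * (x * (k⁻¹ * b)) * b⁻¹ := by group
          _ = k * (k⁻¹ * b * x) * b⁻¹ := by rw [e]
          _ = b * x * b⁻¹ := by group
      rw [← hkx]
      have hc := fun (u w : I) => h.inverted_comm hF hx ht htH u.2.1 u.2.2 w.2.1 w.2.2
      obtain ⟨m₁, hm₁, hm₁', hm₁c⟩ :=
        h.exists_inverted hF hx ht htH (mul_mem g₂.2.1.1 hk.1)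
      obtain ⟨m₂, hm₂, hm₂', hm₂c⟩ :=
        h.exists_inverted hF hx ht htH (mul_mem g₁.2.1.1 hk.1)
      have hconj : ∀ u m : G, m⁻¹ * u ∈ Γ → m * x * m⁻¹ = u * x * u⁻¹ := by
        intro u m hm
        have e := mem_cent.1 hm
        calc m * x * m⁻¹ = m * (x * (m⁻¹ * u)) * u⁻¹ := by group
          _ = m * (m⁻¹ * u * x) * u⁻¹ := by rw [e]
          _ = u * x * u⁻¹ := by group
      calc g₁.1 * (g₂.1 * (k * x * k⁻¹) * g₂.1⁻¹) * g₁.1⁻¹
          = g₁.1 * (g₂.1 * k * x * (g₂.1 * k)⁻¹) * g₁.1⁻¹ := by group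
        _ = g₁.1 * m₁ * x * (g₁.1 * m₁)⁻¹ := by rw [← hconj _ _ hm₁c]; group
        _ = m₁ * g₁.1 * x * (m₁ * g₁.1)⁻¹ :=
              hc g₁ ⟨m₁, hm₁, hm₁'⟩
        _ = g₂.1 * (g₁.1 * (k * x * k⁻¹) * g₁.1⁻¹) * g₂.1⁻¹ := by
              obtain ⟨w, hw, hw'⟩ : ∃ w ∈ Γ, g₂.1 * k = m₁ * w := ⟨_, hm₁c, by group⟩
              have hyo : orderOf (g₁.1 * x * g₁.1⁻¹) = 2 := by
                rw [TwoFusionB.orderOf_conj_eq, hx]
              have hyr : g₁.1 * x * g₁.1⁻¹ ∈ rad x := h.inv_mem_rad hF hx hyo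
                (mul_mem (mul_mem g₁.2.1.1 hxH) (inv_mem g₁.2.1.1))
              have hwy := h.central hF hx ((h.mem_rad hF hx).1 hyr).1 hw
                (TwoFusionB.sq_eq_one_of_inv hyo)
              calc m₁ * g₁.1 * x * (m₁ * g₁.1)⁻¹
                  = m₁ * (g₁.1 * x * g₁.1⁻¹ * w) * w⁻¹ * m₁⁻¹ := by group
                _ = m₁ * (w * (g₁.1 * x * g₁.1⁻¹)) * w⁻¹ * m₁⁻¹ := by rw [hwy]
                _ = (m₁ * w) * (g₁.1 * x * g₁.1⁻¹) * (m₁ * w)⁻¹ := by group
                _ = g₂.1 * (k * g₁.1 * x * (k * g₁.1)⁻¹) * g₂.1⁻¹ := by rw [← hw']; group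
                _ = g₂.1 * (g₁.1 * k * x * (g₁.1 * k)⁻¹) * g₂.1⁻¹ := by
                      rw [hc ⟨k, hk, hk'⟩ g₁]
                _ = g₂.1 * (g₁.1 * (k * x * k⁻¹) * g₁.1⁻¹) * g₂.1⁻¹ := by group)
  -- so every `τ` is trivial or the bar map, hence trivial
  set d : I := ⟨i, hi, hi'⟩ with hd
  have hfix : ∀ c : K, c ^ q = c → τ d c = c := fun c hc =>
    congrArg Subtype.val (hlin d ⟨c, hc.symm⟩)
  have hgα : g' = α d g := Subtype.ext hg
  rw [hgα, hM]
  set m := C.M g with hm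
  have hroot : (τ d m + m) * (τ d m + m ^ q) = 0 := by
    have hs : (m + m ^ q) ^ q = m + m ^ q := by
      rw [add_pow_q hF, pow_q_pow_q hF, add_comm]
    have e1 := hfix _ hs
    have e2 := hfix _ (norm_fixed hF m)
    rw [map_add, map_pow] at e1
    rw [map_pow, pow_succ, pow_succ] at e2
    linear_combination (τ d m) * e1 - e2 + (τ d m * (m + m ^ q)) * CharTwo.two_eq_zero (R := K)
  rcases mul_eq_zero.1 hroot with e | e
  · exact CharTwo.add_eq_zero.1 e
  · have e' := CharTwo.add_eq_zero.1 e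
    have hswap : τ d (m ^ q) = m := by rw [map_pow, e', pow_q_pow_q hF]
    have hiter : ∀ j : ℕ, C.M ((α d)^[2 * j] g) = m ∧ C.M ((α d)^[2 * j + 1] g) = m ^ q := by
      intro j
      induction j with
      | zero => exact ⟨rfl, by rw [Function.iterate_one, hM, ← hm, e']⟩
      | succ j ih =>
        have h1 : C.M ((α d)^[2 * (j + 1)] g) = m := by
          rw [show 2 * (j + 1) = (2 * j + 1) + 1 by omega, Function.iterate_succ_apply', hM, ih.2,
            hswap]
        exact ⟨h1, by rw [Function.iterate_succ_apply', hM, h1, e']⟩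
    have hpow : ∀ j : ℕ, (((α d)^[j] g : Γ) : G) = i ^ j * g * (i ^ j)⁻¹ := by
      intro j
      induction j with
      | zero => simp
      | succ j ih =>
        rw [Function.iterate_succ_apply', hα, ih, pow_succ']
        simp [hd, mul_assoc]
    obtain ⟨k, hk⟩ := h.odd_orderOf_torus hF hx ht htH hi
    have := (hiter k).2
    rw [show (α d)^[2 * k + 1] g = g from Subtype.ext (by
      rw [hpow, ← hk, pow_orderOf_eq_one]; simp), ← hm] at this
    rw [e', ← this]

/-- The torus coordinate is invariant under the normaliser. -/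
theorem M_conj (C : Coord ↥(Subgroup.centralizer ({x} : Set G)) K q) {b : G} (hb : b ∈ hgrp x)
    {g g' : Subgroup.centralizer ({x} : Set G)} (hg : (g' : G) = b * g * b⁻¹) :
    C.M g' = C.M g := by
  obtain ⟨i, hi, hi', hc⟩ := h.exists_inverted hF hx ht htH hb
  set c : Subgroup.centralizer ({x} : Set G) := ⟨i⁻¹ * b, hc⟩ with hcd
  have h1 := h.M_conj_inverted hF hx ht htH C hi hi' (g := c * g * c⁻¹) (g' := g') (by
    rw [hg]; simp [hcd, mul_assoc])
  rw [h1, C.M_mul, C.M_mul, C.M_inv, mul_comm (C.M c), mul_inv_cancel_right₀ (C.M_ne_zero c)]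

end Hyp

end Cfsg.Agent.PGURec18
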