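import Mathlib
import Cfsg.Agent.PGURec18.Torus
import Cfsg.Agent.Bender43.Main

/-!
The Sylow 2-subgroup is regular on the other points (helper18).
-/

set_option autoImplicit false

namespace Cfsg.Agent.PGURec18

open Cfsg.Agent.Unitary MulAction

universe u v

variable {G : Type u} [Group G] [Finite G] {K : Type v} [Field K] [Fintype K] [CharP K 2] {q : ℕ}

/-- Bender: a strongly embedded subgroup is transitive on the other cosets when there are two
distinct commuting involutions. -/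
theorem bender_transitive {G : Type u} [Group G] [Finite G] {H : Subgroup G}
    (hH : Cfsg.IsStronglyEmbedded H) {x y : G} (hx : orderOf x = 2) (hy : orderOf y = 2)
    (hxy : Commute x y) (hne : x ≠ y) :
    ∀ g₁ g₂ : G, g₁ ∉ H → g₂ ∉ H → ∃ h ∈ H, g₂⁻¹ * (h * g₁) ∈ H := by
  obtain ⟨c₀, hc₀⟩ := TwoFusionB.exists_ne_coset hH (QuotientGroup.mk 1 : G ⧸ H)
  obtain ⟨r, hr, hr2, hB1, hB2⟩ := Bender43.four_case hH hx hy hne hxy c₀ (Ne.symm hc₀)
  haveI : Fact r.Prime := ⟨hr⟩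
  exact Bender43.Fixed.transitive_of_orbital hH hr2 c₀ (Ne.symm hc₀) hB1 hB2

namespace Hyp

variable (h : Hyp G K q) (hF : Fintype.card K = q ^ 2)
include h hF

theorem exists_commuting {x : G} (hx : orderOf x = 2) :
    ∃ y, orderOf y = 2 ∧ y ≠ x ∧ Commute x y := by
  classical
  have hc := h.card_inv_hgrp hF hx
  have hxH := h.cent_le_hgrp hF hx (mem_cent.2 rfl : x ∈ Subgroup.centralizer ({x} : Set G))
  by_contra hno
  have : Subsingleton {y : G // orderOf y = 2 ∧ y ∈ hgrp x} := by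
    have hall : ∀ y : {y : G // orderOf y = 2 ∧ y ∈ hgrp x}, y.1 = x := fun y => by
      by_contra hne
      exact hno ⟨y.1, y.2.1, hne, (mem_cent.1 ((h.mem_rad hF hx).1
        (h.inv_mem_rad hF hx y.2.1 y.2.2)).1).symm⟩
    exact ⟨fun a b => Subtype.ext ((hall a).trans (hall b).symm)⟩
  have h1 : Nat.card {y : G // orderOf y = 2 ∧ y ∈ hgrp x} ≤ 1 :=
    Finite.card_le_one_iff_subsingleton.2 this
  obtain ⟨n, hn, rfl⟩ := h.exists_pow hF
  have : 2 ^ 2 ≤ 2 ^ n := Nat.pow_le_pow_right (by norm_num) hn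
  omega

theorem transitive {x : G} (hx : orderOf x = 2) :
    ∀ g₁ g₂ : G, g₁ ∉ hgrp x → g₂ ∉ hgrp x → ∃ k ∈ hgrp x, g₂⁻¹ * (k * g₁) ∈ hgrp x := by
  obtain ⟨y, hy, hne, hxy⟩ := h.exists_commuting hF hx
  exact bender_transitive (h.stronglyEmbedded hF hx) hx hy hxy (Ne.symm hne)

variable {x t : G} (hx : orderOf x = 2) (ht : orderOf t = 2) (htH : t ∉ hgrp x)
include hx ht htH

/-- `H` normalises `C(x)`. -/
theorem conj_mem_cent {b g : G} (hb : b ∈ hgrp x) (hg : g ∈ Subgroup.centralizer ({x} : Set G)) :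
    b * g * b⁻¹ ∈ Subgroup.centralizer ({x} : Set G) := by
  have hxH := h.cent_le_hgrp hF hx (mem_cent.2 rfl : x ∈ Subgroup.centralizer ({x} : Set G))
  have hy : orderOf (b * x * b⁻¹) = 2 := by rw [TwoFusionB.orderOf_conj_eq, hx]
  have hyr : b * x * b⁻¹ ∈ rad x := h.inv_mem_rad hF hx hy (mul_mem (mul_mem hb hxH) (inv_mem hb))
  rw [h.cent_eq hF hx hy (mem_cent.1 ((h.mem_rad hF hx).1 hyr).1), ← cent_conj]
  exact Subgroup.mem_map_of_mem _ hg

omit ht htH in
theorem conj_mem_rad {b g : G} (hb : b ∈ hgrp x) (hg : g ∈ rad x) : b * g * b⁻¹ ∈ rad x :=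
  (Subgroup.mem_normalizer_iff.1 hb g).1 hg

omit ht htH in
/-- A Sylow subgroup of `C(x)` for an odd prime `r` dividing `q + 1` is centralised by its
normaliser in `H`. -/
theorem prime_facts {r : ℕ} (hr : r.Prime) (hrd : r ∣ q + 1) :
    r ≠ 2 ∧ ¬ r ∣ q ^ 3 ∧ ¬ r ∣ q - 1 := by
  have hodd : Odd (q + 1) := (h.even_q hF).add_one
  have h2 : r ≠ 2 := by
    rintro rfl
    exact Nat.not_even_iff_odd.2 hodd (even_iff_two_dvd.2 hrd)
  refine ⟨h2, fun hd => ?_, fun hd => ?_⟩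
  · have hq : r ∣ q := hr.dvd_of_dvd_pow hd
    exact hr.one_lt.ne' (Nat.dvd_one.1 ((Nat.dvd_add_right hq).1 hrd))
  · have : r ∣ 2 := by
      have := Nat.dvd_sub hrd hd
      rwa [show q + 1 - (q - 1) = 2 by have := h.two_lt; omega] at this
    exact h2 ((Nat.prime_dvd_prime_iff_eq hr Nat.prime_two).1 this)

/-- Every prime power part of `q + 1` divides the two-point stabiliser. -/
theorem pow_dvd_torus {r k : ℕ} (hr : r.Prime) (hk : r ^ k ∣ q + 1) :
    r ^ k ∣ Nat.card (torus x t) := by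
  classical
  rcases Nat.eq_zero_or_pos k with rfl | hk0
  · simp
  have hrd : r ∣ q + 1 := (dvd_pow_self r hk0.ne').trans hk
  obtain ⟨hr2, hrq, hrq1⟩ := h.prime_facts hF hx hr hrd
  haveI : Fact r.Prime := ⟨hr⟩
  set C' := Subgroup.centralizer ({x} : Set G) with hC'
  have hle : C' ≤ hgrp x := h.cent_le_hgrp hF hx
  have hxH : x ∈ hgrp x := hle (mem_cent.2 rfl)
  -- a Sylow subgroup `R` of `C(x)`
  obtain ⟨R₀⟩ := (inferInstance : Nonempty (Sylow r C'))
  set R := (R₀ : Subgroup C').map C'.subtype with hRdef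
  have hRC : R ≤ C' := Subgroup.map_subtype_le _
  have hRp : IsPGroup r R := R₀.2.map _
  have hcardR : Nat.card R = r ^ (Nat.card (hgrp x)).factorization r := by
    rw [hRdef, Nat.card_congr ((R₀ : Subgroup C').equivMapOfInjective _
      C'.subtype_injective).symm.toEquiv, R₀.card_eq_multiplicity, h.card_hgrp hF hx,
      Nat.factorization_mul (by have := h.two_lt; omega) (by have := h.two_lt; positivity),
      Finsupp.add_apply, h.card_cent hF hx, Nat.factorization_eq_zero_of_not_dvd hrq1, zero_add]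
  have hk' : r ^ k ∣ Nat.card R := by
    rw [hcardR]
    have hd : r ^ k ∣ Nat.card (hgrp x) := by
      rw [h.card_hgrp hF hx]; exact (hk.trans (dvd_mul_left _ _)).trans (dvd_mul_left _ _)
    exact pow_dvd_pow r ((hr.pow_dvd_iff_le_factorization Nat.card_pos.ne').1 hd)
  refine hk'.trans ?_
  have hRodd : Odd (Nat.card R) := by
    rw [hcardR]; exact (hr.odd_of_ne_two hr2).pow
  -- transitivity on the other points
  set Ω := G ⧸ hgrp x with hΩ
  set a : Ω := QuotientGroup.mk 1 with ha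
  set b : Ω := QuotientGroup.mk t with hb
  have hab : a ≠ b := fun e => htH (by simpa using QuotientGroup.eq.1 e)
  have htr : ∀ c : Ω, c ≠ a → ∃ g ∈ hgrp x, g • b = c := by
    intro c hc
    obtain ⟨g₂, rfl⟩ := QuotientGroup.mk_surjective c
    have hg₂ : g₂ ∉ hgrp x := fun hg => hc (QuotientGroup.eq.2 (by simpa using inv_mem hg))
    obtain ⟨g, hg, hh⟩ := h.transitive hF hx t g₂ htH hg₂
    exact ⟨g, hg, by
      rw [hb, Quotient.smul_mk, smul_eq_mul, eq_comm, QuotientGroup.eq]; exact hh⟩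
  by_cases hfix : ∃ c : Ω, c ≠ a ∧ ∀ y ∈ R, y • c = c
  · obtain ⟨c, hc, hRc⟩ := hfix
    obtain ⟨g, hg, rfl⟩ := htr c hc
    have hsub : R.map (MulAut.conj g⁻¹).toMonoidHom ≤ torus x t := by
      rintro _ ⟨y, hy, rfl⟩
      rw [← torus_eq_stab ht, Subgroup.mem_inf]
      simp only [MulEquiv.coe_toMonoidHom, MulAut.conj_apply, inv_inv]
      refine ⟨mem_stabilizer_iff.2 (TwoFusionB.smul_one_eq_iff.2
        (mul_mem (mul_mem (inv_mem hg) (hle (hRC hy))) hg)), mem_stabilizer_iff.2 ?_⟩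
      rw [← hb, mul_smul, mul_smul, hRc y hy, inv_smul_smul]
    have := Subgroup.card_dvd_of_le hsub
    rwa [Nat.card_congr (R.equivMapOfInjective _ (MulAut.conj g⁻¹).injective).symm.toEquiv] at this
  push Not at hfix
  -- `N(R) ≤ H`
  have hNH : Subgroup.normalizer (R : Set G) ≤ hgrp x := by
    intro g hg
    rw [← TwoFusionB.smul_one_eq_iff (H := hgrp x)]
    by_contra hne
    obtain ⟨y, hy, hyne⟩ := hfix _ hne
    apply hyne
    have hy' : g⁻¹ * y * g ∈ R := (Subgroup.mem_normalizer_iff.1 hg _).2 (by simpa [mul_assoc] using hy)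
    have := TwoFusionB.smul_one_eq_iff.2 (hle (hRC hy'))
    calc y • g • a = g • (g⁻¹ * y * g) • a := by simp [smul_smul, mul_assoc]
      _ = g • a := by rw [this]
  -- `R` is a Sylow subgroup of `G`
  obtain ⟨P, hP⟩ := hRp.exists_le_sylow
  have hPH : (P : Subgroup G) ⊓ hgrp x = R := by
    refine (Subgroup.eq_of_le_of_card_ge (le_inf hP (hRC.trans hle)) ?_).symm
    obtain ⟨m, hm⟩ := IsPGroup.iff_card.1 (P.2.to_le (inf_le_left : (P : Subgroup G) ⊓ hgrp x ≤ P))
    rw [hcardR, hm]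
    refine Nat.pow_le_pow_right hr.pos ?_
    rw [← hr.pow_dvd_iff_le_factorization Nat.card_pos.ne', ← hm]
    exact Subgroup.card_dvd_of_le inf_le_right
  have hRP : (P : Subgroup G) = R := by
    by_contra hne
    have hlt : R.subgroupOf P < ⊤ := lt_top_iff_ne_top.2 fun e =>
      hne (le_antisymm (Subgroup.subgroupOf_eq_top.1 e) hP)
    haveI : Group.IsNilpotent (P : Subgroup G) := P.2.isNilpotent
    obtain ⟨-, ⟨g, hg, hgR⟩⟩ := SetLike.lt_iff_le_and_exists.1
      (Group.normalizerCondition_of_isNilpotent (R.subgroupOf P) hlt)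
    refine hgR ?_
    have hgN : (g : G) ∈ Subgroup.normalizer (R : Set G) := by
      rw [Subgroup.mem_normalizer_iff] at hg ⊢
      intro z
      constructor
      · intro hz
        exact (hg ⟨z, hP hz⟩).1 hz
      · intro hz
        have hzP : z ∈ (P : Subgroup G) := by
          have := (P : Subgroup G).mul_mem (mul_mem (inv_mem g.2) (hP hz)) g.2
          simpa [mul_assoc] using this
        exact (hg ⟨z, hzP⟩).2 hz
    show (g : G) ∈ R
    rw [← hPH]
    exact ⟨g.2, hNH hgN⟩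
  -- Burnside
  have hcentral : Subgroup.normalizer ((P : Subgroup G) : Set G) ≤
      Subgroup.centralizer ((P : Subgroup G) : Set G) := by
    rw [hRP]
    intro g hg
    rw [Subgroup.mem_centralizer_iff]
    intro y hy
    have hy' : g * y * g⁻¹ ∈ R := (Subgroup.mem_normalizer_iff.1 hg y).1 hy
    obtain ⟨C⟩ := h.coord x hx
    have hM := h.M_conj hF hx ht htH C (hNH hg) (g := ⟨y, hRC hy⟩) (g' := ⟨_, hRC hy'⟩) rfl
    have h1 : C.M ((⟨_, hRC hy'⟩ : C') * (⟨y, hRC hy⟩ : C')⁻¹) = 1 := by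
      rw [C.M_mul, C.M_inv, hM, mul_inv_cancel₀ (C.M_ne_zero _)]
    have h4 : (g * y * g⁻¹ * y⁻¹) ^ 4 = 1 := by
      simpa using congrArg Subtype.val ((C.mem_ker_iff_pow hF).1 (C.mem_ker.2 h1))
    have hmem : g * y * g⁻¹ * y⁻¹ ∈ R := mul_mem hy' (inv_mem hy)
    have ho : orderOf (g * y * g⁻¹ * y⁻¹) = 1 := by
      refine Nat.eq_one_of_dvd_coprimes ?_ (orderOf_dvd_of_pow_eq_one h4) (R.orderOf_dvd_natCard hmem)
      rw [show (4 : ℕ) = 2 ^ 2 by norm_num]
      exact (Nat.coprime_two_left.2 hRodd).pow_left 2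
    rw [orderOf_eq_one_iff, mul_inv_eq_one, mul_inv_eq_iff_eq_mul] at ho
    exact ho.symm
  set N := (MonoidHom.transferSylow P hcentral).ker with hN
  have hcompl := MonoidHom.ker_transferSylow_isComplement' P hcentral
  have hidx : N.index = Nat.card R := by rw [hN, hcompl.symm.index_eq_card, hRP]
  have hinvN : ∀ y : G, orderOf y = 2 → y ∈ N := by
    intro y hy
    have h1 := Subgroup.pow_index_mem N y
    obtain ⟨j, hj⟩ := hRodd
    rwa [hidx, hj, pow_succ, pow_mul, ← hy, pow_orderOf_eq_one, one_pow, one_mul] at h1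
  -- `N ∩ H` is strongly embedded in `N`
  have hcoe : ∀ y : G, ∀ hy : y ∈ N, orderOf (⟨y, hy⟩ : N) = orderOf y := fun y hy =>
    (Subgroup.orderOf_coe (⟨y, hy⟩ : N)).symm
  have hSE := h.stronglyEmbedded hF hx
  have hNSE : Cfsg.IsStronglyEmbedded ((hgrp x).subgroupOf N) := by
    refine ⟨fun e => htH (Subgroup.subgroupOf_eq_top.1 e (hinvN t ht)),
      TwoFusionB.even_card_of_mem_inv (a := (⟨x, hinvN x hx⟩ : N))
        (by rw [hcoe, hx]) hxH, fun g hg => ?_⟩
    refine Odd.of_dvd_nat (hSE.2.2 g hg) ?_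
    have hinj := N.subtype_injective
    rw [Nat.card_congr (Subgroup.equivMapOfInjective _ _ hinj).toEquiv]
    refine Subgroup.card_dvd_of_le ?_
    rintro _ ⟨z, ⟨hz1, hz2⟩, rfl⟩
    refine ⟨hz1, ?_⟩
    obtain ⟨w, hw, rfl⟩ := Subgroup.mem_map.1 hz2
    exact ⟨w, hw, rfl⟩
  obtain ⟨y, hy, hne, hxy⟩ := h.exists_commuting hF hx
  have hNtr := bender_transitive hNSE (x := ⟨x, hinvN x hx⟩) (y := ⟨y, hinvN y hy⟩)
    (by rw [hcoe, hx]) (by rw [hcoe, hy]) (Subtype.ext hxy) fun e => hne (congrArg Subtype.val e).symm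
  -- so `D` covers `G / N`
  let φ : torus x t →* G ⧸ N := (QuotientGroup.mk' N).comp (torus x t).subtype
  have hφ : Function.Surjective φ := by
    intro z
    obtain ⟨g, rfl⟩ := QuotientGroup.mk_surjective z
    obtain ⟨⟨n, y'⟩, hny⟩ := (hcompl : Subgroup.IsComplement (N : Set G) (P : Set G)).2 g
    have hyR : (y' : G) ∈ R := by rw [← hRP]; exact y'.2
    have hy'H : (y' : G) ∈ hgrp x := hle (hRC hyR)
    -- move `t` along `y'`
    obtain ⟨⟨n₂, r₂⟩, hg₂⟩ := (hcompl : Subgroup.IsComplement (N : Set G) (P : Set G)).2 ((y' : G) * t)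
    have hr₂ : (r₂ : G) ∈ hgrp x := hle (hRC (by rw [← hRP]; exact r₂.2))
    have hn₂ : (n₂ : G) ∉ hgrp x := fun e => htH (by
      have hmul : (y' : G) * t ∈ hgrp x := by rw [← hg₂]; exact mul_mem e hr₂
      simpa using mul_mem (inv_mem hy'H) hmul)
    simp only at hg₂ hny
    obtain ⟨k, hk, hkt⟩ := hNtr ⟨t, hinvN t ht⟩ n₂ htH hn₂
    rw [Subgroup.mem_subgroupOf] at hk hkt
    simp only [Subgroup.coe_mul, Subgroup.coe_inv] at hkt
    have hd : (k : G)⁻¹ * y' ∈ torus x t := by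
      refine ⟨mul_mem (inv_mem hk) hy'H, ?_⟩
      have he : t * ((k : G)⁻¹ * y') * t⁻¹ =
          ((n₂ : G)⁻¹ * ((k : G) * t))⁻¹ * (r₂ : G) := by
        rw [TwoFusionB.inv_eq_of_inv ht, mul_inv_rev, mul_inv_rev, inv_inv,
          TwoFusionB.inv_eq_of_inv ht]
        calc t * ((k : G)⁻¹ * y') * t = t * (k : G)⁻¹ * ((y' : G) * t) := by group
          _ = t * (k : G)⁻¹ * ((n₂ : G) * r₂) := by rw [hg₂]
          _ = _ := by group
      rw [he]; exact mul_mem (inv_mem hkt) hr₂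
    refine ⟨⟨_, hd⟩, ?_⟩
    show QuotientGroup.mk ((k : G)⁻¹ * y') = (QuotientGroup.mk g : G ⧸ N)
    rw [← hny, QuotientGroup.mk_mul, QuotientGroup.mk_mul, QuotientGroup.mk_inv,
      (QuotientGroup.eq_one_iff _).2 n.2, (QuotientGroup.eq_one_iff _).2 k.2, inv_one]
  have := Subgroup.card_dvd_of_surjective φ hφ
  rwa [← Subgroup.index, hidx] at this

theorem card_torus : Nat.card (torus x t) = (q - 1) * (q + 1) := by
  have hq := h.two_lt
  have h1 : q + 1 ∣ Nat.card (torus x t) :=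
    (Nat.dvd_iff_prime_pow_dvd_dvd _ _).2 fun p k hp hpk => h.pow_dvd_torus hF hx ht htH hp hpk
  set C' := Subgroup.centralizer ({x} : Set G) with hC'
  haveI hn : (C'.subgroupOf (hgrp x)).Normal :=
    ⟨fun c hc g => h.conj_mem_cent hF hx ht htH g.2 hc⟩
  have hle : torus x t ≤ hgrp x := fun d hd => hd.1
  let φ : torus x t →* hgrp x ⧸ C'.subgroupOf (hgrp x) :=
    (QuotientGroup.mk' _).comp (Subgroup.inclusion hle)
  have hφ : Function.Surjective φ := by
    intro z
    obtain ⟨g, rfl⟩ := QuotientGroup.mk_surjective z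
    obtain ⟨i, hi, -, hc⟩ := h.exists_inverted hF hx ht htH g.2
    exact ⟨⟨i, hi⟩, QuotientGroup.eq.2 (Subgroup.mem_subgroupOf.2 (by simpa using hc))⟩
  have h2 : q - 1 ∣ Nat.card (torus x t) := by
    have := Subgroup.card_dvd_of_surjective φ hφ
    have hc := Subgroup.card_eq_card_quotient_mul_card_subgroup (C'.subgroupOf (hgrp x))
    rw [Nat.card_congr (Subgroup.subgroupOfEquivOfLe (h.cent_le_hgrp hF hx)).toEquiv,
      h.card_cent hF hx, h.card_hgrp hF hx] at hc
    rwa [← Nat.eq_of_mul_eq_mul_right (by positivity) hc] at this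
  have hcop : (q - 1).Coprime (q + 1) := by
    have hodd : Odd (q - 1) := by
      have := h.even_q hF
      rw [Nat.odd_sub (by omega)]
      simp [this]
    rw [show q + 1 = (q - 1) + 2 by omega, Nat.coprime_self_add_right]
    exact Nat.coprime_two_right.2 hodd
  obtain ⟨m, hm⟩ := hcop.mul_dvd_of_dvd_of_dvd h2 h1
  have h3 : Nat.card (torus x t) ∣ (q - 1) * (q + 1) := by
    have hd : Nat.card (torus x t) ∣ (q - 1) * (q ^ 3 * (q + 1)) := by
      rw [← h.card_hgrp hF hx]; exact Subgroup.card_dvd_of_le hle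
    rw [show (q - 1) * (q ^ 3 * (q + 1)) = (q - 1) * (q + 1) * q ^ 3 by ring] at hd
    refine Nat.Coprime.dvd_of_dvd_mul_right ?_ hd
    obtain ⟨n, -, hn⟩ := h.exists_pow hF
    rw [hn, ← pow_mul]
    exact (Nat.coprime_two_right.2 (h.odd_torus hF hx ht htH)).pow_right _
  exact Nat.dvd_antisymm h3 ⟨m, hm⟩

theorem rad_inf_torus : rad x ⊓ torus x t = ⊥ :=
  (Subgroup.disjoint_of_coprime_natCard (by
    rw [h.card_rad hF hx]
    obtain ⟨n, -, hn⟩ := h.exists_pow hF
    rw [hn, ← pow_mul]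
    exact (Nat.coprime_two_left.2 (h.odd_torus hF hx ht htH)).pow_left _)).eq_bot

/-- `H = S D`. -/
theorem exists_decomp {g : G} (hg : g ∈ hgrp x) :
    ∃ s ∈ rad x, ∃ d ∈ torus x t, g = s * d := by
  let f : rad x × torus x t → hgrp x := fun p => ⟨p.1 * p.2, mul_mem (h.rad_le_hgrp hF p.1.2) p.2.2.1⟩
  have hinj : Function.Injective f := by
    intro p p' e
    have e' : (p.1 : G) * p.2 = p'.1 * p'.2 := congrArg Subtype.val e
    have h1 : (p'.1 : G)⁻¹ * p.1 = p'.2 * (p.2 : G)⁻¹ := by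
      rw [eq_mul_inv_iff_mul_eq, mul_assoc, e', inv_mul_cancel_left]
    have hm : (p'.1 : G)⁻¹ * p.1 ∈ rad x ⊓ torus x t := Subgroup.mem_inf.2
      ⟨mul_mem (inv_mem p'.1.2) p.1.2, h1 ▸ mul_mem p'.2.2 (inv_mem p.2.2)⟩
    rw [h.rad_inf_torus hF hx ht htH, Subgroup.mem_bot, inv_mul_eq_one] at hm
    rw [← hm, mul_right_inj] at e'
    exact Prod.ext (Subtype.ext hm.symm) (Subtype.ext e')
  have hbij := hinj.bijective_of_nat_card_le (le_of_eq (by
    rw [Nat.card_prod, h.card_hgrp hF hx, h.card_rad hF hx, h.card_torus hF hx ht htH]; ring))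
  obtain ⟨⟨s, d⟩, hsd⟩ := hbij.2 ⟨g, hg⟩
  exact ⟨s, s.2, d, d.2, (congrArg Subtype.val hsd).symm⟩

end Hyp

end Cfsg.Agent.PGURec18
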