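import Mathlib
import Cfsg.Agent.PGURec18.Regular
import Cfsg.Agent.Suz27.Gen

/-!
The rank one set-up with its structure equation (helper18).
-/

set_option autoImplicit false

namespace Cfsg.Agent.PGURec18

open Cfsg.Agent.Unitary MulAction

universe u v

variable {G : Type u} [Group G] [Finite G] {K : Type v} [Field K] [Fintype K] [CharP K 2] {q : ℕ}

/-- The elements of odd order of `C(x)` off the identity move the unipotent coordinate. -/
theorem eq_one_of_M_one (h : Hyp G K q) (hF : Fintype.card K = q ^ 2) {x d : G}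
    (C : Coord ↥(Subgroup.centralizer ({x} : Set G)) K q)
    (hd : d ∈ Subgroup.centralizer ({x} : Set G)) (ho : Odd (orderOf d)) (hM : C.M ⟨d, hd⟩ = 1) :
    d = 1 := by
  have _ := h
  have h4 : d ^ 4 = 1 :=
    congrArg Subtype.val ((C.mem_ker_iff_pow hF (g := ⟨d, hd⟩)).1 (C.mem_ker.2 hM))
  rw [← orderOf_eq_one_iff]
  refine Nat.eq_one_of_dvd_coprimes ?_ (orderOf_dvd_of_pow_eq_one h4) dvd_rfl
  rw [show (4 : ℕ) = 2 ^ 2 by norm_num]
  exact (Nat.coprime_two_left.2 ho).pow_left 2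

namespace Hyp

variable (h : Hyp G K q) (hF : Fintype.card K = q ^ 2)
variable {x t : G} (hx : orderOf x = 2) (ht : orderOf t = 2) (htH : t ∉ hgrp x)
include h hF hx ht htH

/-- No element of the radical other than one commutes with `t`. -/
theorem eq_one_of_commute {e : G} (he : e ∈ rad x) (hte : e * t = t * e) : e = 1 := by
  by_contra hne
  have hr : rad x = rad t := h.rad_ti hF hx ht he
    ((h.mem_rad hF ht).2 ⟨mem_cent.2 hte, ((h.mem_rad hF hx).1 he).2⟩) hne
  exact htH (h.rad_le_hgrp hF (hr ▸ h.self_mem_rad hF ht))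

/-- The structure equation: the element `r` has square one. -/
theorem rInv : Suz27.RInv (QuotientGroup.mk 1 : G ⧸ hgrp x) t (rad x) := by
  intro s r hs hr hsr
  obtain ⟨hsH, hs1, hs2⟩ : s ∈ hgrp x ∧ s ≠ 1 ∧ s * s = 1 := by
    exact ⟨TwoFusionB.smul_one_eq_iff.1 (mem_stabilizer_iff.1 hs.1), hs.2.1, hs.2.2⟩
  have hso := orderOf_eq_two hs1 hs2
  have hsC : s ∈ Subgroup.centralizer ({x} : Set G) :=
    ((h.mem_rad hF hx).1 (h.inv_mem_rad hF hx hso hsH)).1
  -- a torus element centralising `t` and `x`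
  obtain ⟨p, hp, hpd⟩ := Nat.exists_prime_and_dvd (show q + 1 ≠ 1 by have := h.two_lt; omega)
  haveI : Fact p.Prime := ⟨hp⟩
  obtain ⟨⟨d, hd⟩, hdo⟩ := exists_prime_orderOf_dvd_card' (G := torus x t) p (by
    rw [h.card_torus hF hx ht htH]; exact hpd.trans (dvd_mul_left _ _))
  replace hdo : orderOf d = p := (Subgroup.orderOf_coe _).trans hdo
  have hdp : d ^ (q + 1) = 1 := orderOf_dvd_iff_pow_eq_one.1 (hdo ▸ hpd)
  have hdC := (h.mem_cent_iff_pow hF hx ht htH hd).2 hdp
  have hdt := h.fixed_of_cent hF hx ht htH hd hdC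
  have e2 := TwoFusionB.sq_eq_one_of_inv ht
  have hdt' : d * t = t * d := by
    calc d * t = t * t * d * t := by rw [e2, one_mul]
      _ = t * (t * d * t) := by group
      _ = t * d := by rw [hdt]
  have hds : d * s = s * d := h.central hF hx hsC hdC hs2
  -- `r` commutes with `d`
  have hdH := hd.1
  set r' := d * r * d⁻¹ with hr'
  have hr'm : r' ∈ rad x := h.conj_mem_rad hF hx hdH hr
  have heq : r'⁻¹ * t * r' = r⁻¹ * t * r := by
    have hfix : d * (t * s * t) * d⁻¹ = t * s * t := by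
      calc d * (t * s * t) * d⁻¹ = d * t * s * t * d⁻¹ := by group
        _ = t * (d * s) * t * d⁻¹ := by rw [hdt']; group
        _ = t * s * (d * t) * d⁻¹ := by rw [hds]; group
        _ = t * s * (t * d) * d⁻¹ := by rw [hdt']
        _ = t * s * t := by group
    rw [hsr] at hfix
    calc r'⁻¹ * t * r' = d * r⁻¹ * (d⁻¹ * (t * d)) * r * d⁻¹ := by rw [hr']; group
      _ = d * r⁻¹ * (d⁻¹ * (d * t)) * r * d⁻¹ := by rw [hdt']
      _ = d * (r⁻¹ * t * r) * d⁻¹ := by group
      _ = r⁻¹ * t * r := hfix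
  have hcomm : r * r'⁻¹ * t = t * (r * r'⁻¹) := by
    calc r * r'⁻¹ * t = r * (r'⁻¹ * t * r') * r'⁻¹ := by group
      _ = r * (r⁻¹ * t * r) * r'⁻¹ := by rw [heq]
      _ = t * (r * r'⁻¹) := by group
  have hrr := h.eq_one_of_commute hF hx ht htH (mul_mem hr (inv_mem hr'm)) hcomm
  rw [mul_inv_eq_one] at hrr
  -- hence `r` is in the centre
  obtain ⟨C⟩ := h.coord x hx
  have hrC := ((h.mem_rad hF hx).1 hr).1
  have hM1 : C.M ⟨r, hrC⟩ = 1 :=
    C.mem_ker.1 ((C.mem_ker_iff_pow hF).2 (Subtype.ext ((h.mem_rad hF hx).1 hr).2))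
  have hcx := C.conj_X ⟨d, hdC⟩ hM1
  rw [show (⟨d, hdC⟩ : Subgroup.centralizer ({x} : Set G)) * ⟨r, hrC⟩ * ⟨d, hdC⟩⁻¹ = ⟨r, hrC⟩ from
    Subtype.ext (by simpa using (hr' ▸ hrr).symm)] at hcx
  have hMd : C.M ⟨d, hdC⟩ ≠ 1 := fun e => by
    have := eq_one_of_M_one h hF C hdC (h.odd_orderOf_torus hF hx ht htH hd) e
    rw [this, orderOf_one] at hdo
    exact hp.one_lt.ne hdo
  have hX : C.X ⟨r, hrC⟩ = 0 := by
    by_contra h0
    exact hMd (mul_right_cancel₀ h0 (by rw [one_mul]; exact hcx.symm))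
  exact congrArg Subtype.val (C.mul_self_of_coords hF hX hM1)

theorem qOf_rad : Suz27.qOf (rad x) = q := by
  obtain ⟨C⟩ := h.coord x hx
  rw [Suz27.qOf]
  refine Eq.trans ?_ (C.card_sq_one hF)
  exact Nat.card_congr
    { toFun := fun g => ⟨⟨g.1, ((h.mem_rad hF hx).1 g.2.1).1⟩, Subtype.ext g.2.2⟩
      invFun := fun g => ⟨g.1.1, h.mem_rad_of_mul_self hF hx g.1.2 (congrArg Subtype.val g.2),
        congrArg Subtype.val g.2⟩
      left_inv := fun g => rfl
      right_inv := fun g => rfl }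

theorem torus_eq : stabilizer G (QuotientGroup.mk 1 : G ⧸ hgrp x) ⊓
    stabilizer G (t • (QuotientGroup.mk 1 : G ⧸ hgrp x)) = torus x t := by
  rw [Quotient.smul_mk, smul_eq_mul, mul_one, torus_eq_stab ht]

theorem faithful : FaithfulSMul G (G ⧸ hgrp x) := by
  refine ⟨fun {g₁ g₂} he => ?_⟩
  set N := (hgrp x).normalCore with hN
  have hmem : g₁⁻¹ * g₂ ∈ N := by
    rw [hN, Subgroup.normalCore_eq_ker, MonoidHom.mem_ker]
    exact Equiv.ext fun c => by simp [mul_smul, ← he c]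
  set w := g₁⁻¹ * g₂ with hw
  have hNn : N.Normal := (hgrp x).normalCore_normal
  have hwT : w ∈ torus x t :=
    ⟨(hgrp x).normalCore_le hmem, (hgrp x).normalCore_le (hNn.conj_mem _ hmem t)⟩
  have hcomm : ∀ s ∈ rad x, w * s = s * w := by
    intro s hs
    have h1 : w * s * w⁻¹ * s⁻¹ ∈ rad x :=
      mul_mem (h.conj_mem_rad hF hx hwT.1 hs) (inv_mem hs)
    have h2 : w * s * w⁻¹ * s⁻¹ ∈ N := by
      rw [show w * s * w⁻¹ * s⁻¹ = w * (s * w⁻¹ * s⁻¹) by group]
      exact mul_mem hmem (hNn.conj_mem _ (inv_mem hmem) s)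
    have h3 : w * s * w⁻¹ * s⁻¹ ∈ rad x ⊓ torus x t :=
      ⟨h1, (hgrp x).normalCore_le h2, (hgrp x).normalCore_le (hNn.conj_mem _ h2 t)⟩
    rw [h.rad_inf_torus hF hx ht htH, Subgroup.mem_bot, mul_inv_eq_one, mul_inv_eq_iff_eq_mul] at h3
    exact h3
  have hwC : w ∈ Subgroup.centralizer ({x} : Set G) :=
    mem_cent.2 (hcomm x (h.self_mem_rad hF hx))
  obtain ⟨C⟩ := h.coord x hx
  obtain ⟨-, hM⟩ := C.coords_of_centralises hF (g := ⟨w, hwC⟩) fun s hs => Subtype.ext
    (hcomm s ((h.mem_rad hF hx).2 ⟨s.2, congrArg Subtype.val ((C.mem_ker_iff_pow hF).1 hs)⟩))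
  exact inv_mul_eq_one.1 (eq_one_of_M_one h hF C hwC (h.odd_orderOf_torus hF hx ht htH hwT) hM)

theorem r1 : Suz27.R1 G (G ⧸ hgrp x) (QuotientGroup.mk 1) t (rad x) := by
  have hstab : ∀ g : G, g ∈ stabilizer G (QuotientGroup.mk 1 : G ⧸ hgrp x) ↔ g ∈ hgrp x :=
    fun g => by rw [mem_stabilizer_iff, TwoFusionB.smul_one_eq_iff]
  refine { setup := ?_, faithful := h.faithful hF hx ht htH, rank2 := ?_ }
  · refine
      { two_transitive := ?_
        mul_self := TwoFusionB.sq_eq_one_of_inv ht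
        ne_one := TwoFusionB.ne_one_of_inv ht
        not_mem := fun e => htH ((hstab t).1 e)
        le := fun g hg => (hstab g).2 (h.rad_le_hgrp hF hg)
        conj_mem := fun b hb g hg => h.conj_mem_rad hF hx ((hstab b).1 hb) hg
        inf_eq_bot := ?_
        sup_eq := ?_
        even_card := ?_
        odd_card := ?_ }
    · rw [is_two_pretransitive_iff]
      intro p p' r r' hp hr
      obtain ⟨gp, rfl⟩ := QuotientGroup.mk_surjective p
      obtain ⟨gp', rfl⟩ := QuotientGroup.mk_surjective p'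
      obtain ⟨gr, rfl⟩ := QuotientGroup.mk_surjective r
      obtain ⟨gr', rfl⟩ := QuotientGroup.mk_surjective r'
      obtain ⟨k, hk, hkk⟩ := h.transitive hF hx (gp⁻¹ * gp') (gr⁻¹ * gr')
        (fun e => hp (QuotientGroup.eq.2 e)) (fun e => hr (QuotientGroup.eq.2 e))
      refine ⟨gr * k * gp⁻¹, ?_, ?_⟩
      · rw [Quotient.smul_mk, smul_eq_mul, eq_comm, QuotientGroup.eq]
        simpa [mul_assoc] using hk
      · rw [Quotient.smul_mk, smul_eq_mul, eq_comm, QuotientGroup.eq]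
        simpa [mul_assoc] using hkk
    · refine (Subgroup.eq_bot_iff_forall _).2 fun g hg => ?_
      have h1 : g ∈ rad x ⊓ torus x t := ⟨hg.1, by
        rw [← h.torus_eq hF hx ht htH]; exact ⟨(hstab g).2 (h.rad_le_hgrp hF hg.1), hg.2⟩⟩
      rwa [h.rad_inf_torus hF hx ht htH, Subgroup.mem_bot] at h1
    · refine le_antisymm (sup_le (fun g hg => (hstab g).2 (h.rad_le_hgrp hF hg)) inf_le_left)
        fun g hg => ?_
      obtain ⟨s, hs, d, hd, rfl⟩ := h.exists_decomp hF hx ht htH ((hstab g).1 hg)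
      exact Subgroup.mul_mem_sup hs (by rw [h.torus_eq hF hx ht htH]; exact hd)
    · rw [h.card_rad hF hx]; exact (h.even_q hF).pow_of_ne_zero (by norm_num)
    · rw [h.torus_eq hF hx ht htH]; exact h.odd_torus hF hx ht htH
  · obtain ⟨y, hy, hne, hxy⟩ := h.exists_commuting hF hx
    exact ⟨x, y, TwoFusionB.ne_one_of_inv hx, TwoFusionB.ne_one_of_inv hy, hne.symm,
      TwoFusionB.sq_eq_one_of_inv hx, TwoFusionB.sq_eq_one_of_inv hy, hxy.eq⟩

theorem card_group : Nat.card G = (q ^ 3 + 1) * ((q - 1) * (q ^ 3 * (q + 1))) := by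
  classical
  set a : G ⧸ hgrp x := QuotientGroup.mk 1 with ha
  set b : G ⧸ hgrp x := QuotientGroup.mk t with hb
  have hab : b ≠ a := fun e => htH (by simpa using QuotientGroup.eq.1 e.symm)
  have hfix : ∀ g ∈ hgrp x, g • a = a := fun g hg => TwoFusionB.smul_one_eq_iff.2 hg
  let f : rad x → {c : G ⧸ hgrp x // c ≠ a} := fun s => ⟨(s : G) • b, fun e => hab
    (smul_left_cancel _ (e.trans (hfix _ (h.rad_le_hgrp hF s.2)).symm))⟩
  have hf : Function.Bijective f := by
    constructor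
    · intro s s' e
      have e0 : (s : G) • b = (s' : G) • b := congrArg Subtype.val e
      have e' : ((s' : G)⁻¹ * s) • b = b := by rw [mul_smul, e0, inv_smul_smul]
      have h1 : (s' : G)⁻¹ * s ∈ rad x ⊓ torus x t :=
        Subgroup.mem_inf.2 ⟨mul_mem (inv_mem s'.2) s.2, by
          rw [← torus_eq_stab ht]
          exact ⟨hfix _ (h.rad_le_hgrp hF (mul_mem (inv_mem s'.2) s.2)), e'⟩⟩
      rw [h.rad_inf_torus hF hx ht htH, Subgroup.mem_bot, inv_mul_eq_one] at h1
      exact Subtype.ext h1.symm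
    · rintro ⟨c, hc⟩
      obtain ⟨g₂, rfl⟩ := QuotientGroup.mk_surjective c
      have hg₂ : g₂ ∉ hgrp x := fun hg => hc (QuotientGroup.eq.2 (by simpa using inv_mem hg))
      obtain ⟨k, hk, hkk⟩ := h.transitive hF hx t g₂ htH hg₂
      obtain ⟨s, hs, d, hd, rfl⟩ := h.exists_decomp hF hx ht htH hk
      refine ⟨⟨s, hs⟩, Subtype.ext ?_⟩
      show s • b = _
      have hdb : d • b = b := by
        rw [← torus_eq_stab ht] at hd; exact hd.2
      rw [← hdb, ← mul_smul, hb, Quotient.smul_mk, smul_eq_mul, eq_comm, QuotientGroup.eq]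
      exact hkk
  have hc : Nat.card (G ⧸ hgrp x) = q ^ 3 + 1 := by
    haveI := Fintype.ofFinite (G ⧸ hgrp x)
    have h1 := Nat.card_eq_of_bijective f hf
    rw [h.card_rad hF hx, Nat.card_eq_fintype_card, Fintype.card_subtype_compl,
      Fintype.card_subtype_eq] at h1
    have := Fintype.card_pos_iff.2 ⟨a⟩
    rw [Nat.card_eq_fintype_card]
    omega
  rw [Subgroup.card_eq_card_quotient_mul_card_subgroup (hgrp x), hc, h.card_hgrp hF hx]

end Hyp

end Cfsg.Agent.PGURec18
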