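import Mathlib
import Cfsg.Agent.PGURec18.Setup
import Cfsg.Agent.PGURec18.Model
import Cfsg.Agent.Suz27.Core
import Cfsg.Agent.Suz27.Model
import Cfsg.Agent.AutPSU.Centralizer
import Cfsg.Agent.Lib.SuzukiTwo.Unitary

/-!
The identification with `PGU₃(q)` (helper18).
-/

set_option autoImplicit false

namespace Cfsg.Agent.PGURec18

open Cfsg.Agent.Unitary Cfsg.Agent.AutPSU MulAction

universe u v

variable {G : Type u} [Group G] [Finite G] {K : Type v} [Field K] [Fintype K] [CharP K 2] {q : ℕ}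

theorem card_center_GU (hF : Fintype.card K = q ^ 2) :
    Nat.card (Subgroup.center ↥(Cfsg.GU 3 K q)) = q + 1 := by
  classical
  have hex : ∀ r : {r : K // r ^ (q + 1) = 1}, ∃ g : Subgroup.center ↥(Cfsg.GU 3 K q),
      ∀ v : Fin 3 → K, (g : Cfsg.GU 3 K q) • v = r.1 • v := fun r => by
    obtain ⟨g, hg, -⟩ := exists_scalar_GU hF (n := 3) r.2
    exact ⟨⟨g, scalar_mem_center_GU hg⟩, hg⟩
  choose s hs using hex
  have hbij : Function.Bijective s := by
    constructor
    · intro r r' e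
      have h1 := (hs r (eI 0)).symm.trans (e ▸ hs r' (eI 0))
      have h2 := congrFun h1 0
      simp [eI] at h2
      exact Subtype.ext h2
    · intro g
      obtain ⟨r, hr⟩ := (mem_center_GU_iff hF).1 g.2
      exact ⟨⟨r, norm_of_scalar_GU hF (by norm_num) hr⟩,
        Subtype.ext (eq_of_smul_eq_GU fun v => by rw [hs, hr])⟩
  rw [← Nat.card_eq_of_bijective s hbij, card_norm_eq_one hF]

theorem card_PGU3 (hF : Fintype.card K = q ^ 2) (hq : 2 ≤ q) :
    Nat.card (PGU3 K q) = (q ^ 3 + 1) * ((q - 1) * (q ^ 3 * (q + 1))) := by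
  have h1 := Subgroup.card_eq_card_quotient_mul_card_subgroup (Subgroup.center ↥(Cfsg.GU 3 K q))
  rw [card_GU hF 3, card_center_GU hF] at h1
  simp only [Finset.prod_range_succ, Finset.prod_range_zero] at h1
  norm_num [Nat.even_iff] at h1
  rw [show q ^ 2 - 1 = (q + 1) * (q - 1) from by simpa using Nat.sq_sub_sq q 1] at h1
  refine Nat.eq_of_mul_eq_mul_right (Nat.succ_pos q) ?_
  rw [Nat.succ_eq_add_one, ← h1]
  ring

omit [CharP K 2] in
/-- The kernel of `GU → Aut PSU` is the centre. -/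
theorem ker_pgu (hF : Fintype.card K = q ^ 2) :
    (pgu 3 K q).ker = Subgroup.center ↥(Cfsg.GU 3 K q) := by
  ext g
  rw [MonoidHom.mem_ker, pgu_eq_one_iff hF le_rfl, mem_center_GU_iff hF]
  constructor
  · rintro ⟨c, hc⟩
    refine ⟨c, fun v => ?_⟩
    show (g : GL (Fin 3) K) • v = _
    rw [hc, app_scalar]
  · rintro ⟨r, hr⟩
    have hr0 : r ≠ 0 := fun e => by
      have := congrFun (show (eI 0 : Fin 3 → K) = 0 from (smul_eq_zero_iff_eq g).1 (by rw [hr, e, zero_smul])) 0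
      simp [eI] at this
    refine ⟨Units.mk0 r hr0, Units.ext (Matrix.ext_of_mulVec_single fun i => ?_)⟩
    exact (hr (Pi.single i 1)).trans (app_scalar (Units.mk0 r hr0) (Pi.single i 1)).symm

omit [CharP K 2] in
/-- `GU/Z` is the inner-diagonal group. -/
theorem pgu_equiv (hF : Fintype.card K = q ^ 2) :
    Nonempty (PGU3 K q ≃* ↥(Cfsg.inndiagPSU 3 K q)) :=
  ⟨((QuotientGroup.quotientMulEquivOfEq (ker_pgu hF).symm).trans
    (QuotientGroup.quotientKerEquivRange _)).trans (MulEquiv.subgroupCongr pgu_range)⟩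

/-- An automorphism of `PSU₃(q)` fixing a transvection group pointwise, with an odd power inner,
is inner-diagonal. -/
theorem mem_inndiag_of_fix (hF : Fintype.card K = q ^ 2) (hq : 2 < q) {e f : Fin 3 → K}
    (h : HPair q e f) (α : MulAut (Cfsg.PSU 3 K q))
    (hfix : ∀ c (hc : c + c ^ q = 0), α (piU 3 K q (tv hF h.ee hc)) = piU 3 K q (tv hF h.ee hc))
    {m : ℕ} (hm : Odd m) {s : Cfsg.SU 3 K q} (hpow : α ^ m = MulAut.conj (piU 3 K q s)) :
    α ∈ Cfsg.inndiagPSU 3 K q := by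
  obtain ⟨g, σ, hg, hα⟩ := exists_semi hF le_rfl (fun e => by omega) α
  obtain ⟨θ, hθ0, hθ⟩ := exists_θ hF
  have hσ' : ∀ c : K, c + c ^ q = 0 → σ c + σ c ^ q = 0 := fun c hc => by
    rw [← map_pow, ← map_add, hc, map_zero]
  have hu' : herm q (app g σ e) (app g σ e) = 0 := by rw [herm_app hg, h.ee, map_zero]
  have hne : app g σ e ≠ 0 := fun hz => by
    have := herm_app (q := q) hg σ e f
    rw [hz, herm_zero_left, h.ef, map_one] at this
    exact zero_ne_one this
  have key : ∀ c (hc : c + c ^ q = 0), piU 3 K q (tv hF hu' (hσ' c hc)) =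
      piU 3 K q (tv hF h.ee hc) := fun c hc => by
    rw [← hfix c hc]
    exact (hα.map_tv hF hg (u := e) (u' := app g σ e) (hu := h.ee) (hu' := hu') (a := 1)
      (one_smul K _).symm (c := c) (hc := hc) (hc' := hσ' c hc) (by simp)).symm
  obtain ⟨a, ha0, hae⟩ := point_of_tv hF (by norm_num) h hu' hne ((map_ne_zero σ).2 hθ0)
    (hσ' θ hθ) hθ (key θ hθ)
  have hscal : ∀ c, c + c ^ q = 0 → a * a ^ q * σ c = c := by
    intro c hc
    have hcc : a * a ^ q * σ c + (a * a ^ q * σ c) ^ q = 0 := by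
      rw [mul_pow, mul_pow, pow_q_pow_q hF]; linear_combination (a * a ^ q) * hσ' c hc
    have h1 := hα.map_tv hF hg (u := e) (u' := e) (hu := h.ee) (hu' := h.ee) (a := a)
      (c := c) (hc := hc) (hc' := hcc) hae rfl
    rw [hfix c hc] at h1
    exact (Qel_inj hF h (orth2_zero e f) (orth2_zero e f)
      (piU_Qel_eq hF (by norm_num) h.e_ne h1)).2.symm
  have hσK : ∀ x : K, x ^ q = x → σ x = x := by
    intro x hx
    have h1 := hscal _ (fixed_mul_cond hx hθ)
    rw [map_mul] at h1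
    have h2 := hscal θ hθ
    exact mul_right_cancel₀ hθ0 (by linear_combination h1 - (σ x) * h2)
  have hσ2 : σ ^ 2 = 1 := RingEquiv.ext fun x => by
    have hs : (x + x ^ q) ^ q = x + x ^ q := by rw [add_pow_q hF, pow_q_pow_q hF, add_comm]
    have e1 := hσK _ hs
    have e2 := hσK _ (norm_fixed hF x)
    rw [map_add, map_pow] at e1
    rw [map_pow, pow_succ, pow_succ] at e2
    have hroot : (σ x + x) * (σ x + x ^ q) = 0 := by
      linear_combination (σ x) * e1 - e2 + (σ x * (x + x ^ q)) * CharTwo.two_eq_zero (R := K)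
    rw [pow_two]
    show σ (σ x) = x
    rcases mul_eq_zero.1 hroot with e' | e'
    · rw [CharTwo.add_eq_zero.1 e', CharTwo.add_eq_zero.1 e']
    · rw [CharTwo.add_eq_zero.1 e', map_pow, CharTwo.add_eq_zero.1 e', pow_q_pow_q hF]
  have h2 : α ^ 2 ∈ Cfsg.inndiagPSU 3 K q := by
    obtain ⟨h3, h4⟩ := IsSemi.pow hg hα 2
    rw [hσ2] at h4
    exact (mem_inndiag_iff _).2 ⟨_, (eq_pgu h3 h4).symm⟩
  have hmem : α ^ m ∈ Cfsg.inndiagPSU 3 K q :=
    (mem_inndiag_iff _).2 ⟨toGU s, by rw [pgu_rho, hpow]⟩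
  obtain ⟨j, rfl⟩ := hm
  have : α = α ^ (2 * j + 1) * ((α ^ 2) ^ j)⁻¹ := by
    rw [← pow_mul, pow_succ', mul_inv_cancel_right]
  rw [this]
  exact mul_mem hmem (inv_mem (pow_mem h2 j))

theorem sq_inj_preimage {L : Type*} [Group L] {P : Type*} [Group P] (ψ : L ≃* P) {z : L}
    (hz : ψ z * ψ z = 1) : z * z = 1 :=
  ψ.injective (by rw [map_mul, hz, map_one])

namespace Hyp

variable (h : Hyp G K q) (hF : Fintype.card K = q ^ 2)
include h hF

/-- The main theorem. -/
theorem iso_pgu : Nonempty (G ≃* PGU3 K q) := by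
  classical
  haveI : Fact (Nat.Prime 2) := ⟨Nat.prime_two⟩
  obtain ⟨n, hn, hqn⟩ := h.exists_pow hF
  obtain ⟨x, hx⟩ := h.exists_inv
  have hSE := h.stronglyEmbedded hF hx
  obtain ⟨c₀, hc₀⟩ := TwoFusionB.exists_ne_coset hSE (QuotientGroup.mk 1 : G ⧸ hgrp x)
  obtain ⟨t, ht, hta⟩ := TwoFusionB.exists_moveInv hSE hc₀
  have htH : t ∉ hgrp x := fun e => hc₀ (by rw [← hta, TwoFusionB.smul_one_eq_iff.2 e])
  have hR := h.r1 hF hx ht htH
  obtain ⟨L, htL, hLn, hLo, hQL, hRL, hGL⟩ := Suz27.exists_gen_subgroup hR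
  haveI := hLn
  -- all involutions lie in `L`
  have hinvL : ∀ y : G, orderOf y = 2 → y ∈ L := by
    intro y hy
    have h1 := Subgroup.pow_index_mem L y
    obtain ⟨j, hj⟩ := hLo
    rwa [hj, pow_succ, pow_mul, ← hy, pow_orderOf_eq_one, one_pow, one_mul] at h1
  -- `L` is `PSU₃(q)`
  have hqL : Suz27.qOf ((rad x).subgroupOf L) = q := by
    refine Eq.trans ?_ (h.qOf_rad hF hx ht htH)
    exact Nat.card_congr
      { toFun := fun g => ⟨(g.1 : G), g.2.1, congrArg Subtype.val g.2.2⟩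
        invFun := fun g => ⟨⟨g.1, hQL g.2.1⟩, g.2.1, Subtype.ext g.2.2⟩
        left_inv := fun g => rfl
        right_inv := fun g => rfl }
  have hcL : Nat.card ((rad x).subgroupOf L) = q ^ 3 := by
    rw [Nat.card_congr (Subgroup.subgroupOfEquivOfLe hQL).toEquiv, h.card_rad hF hx]
  have hrL : Suz27.RInv (QuotientGroup.mk 1 : G ⧸ hgrp x) (⟨t, htL⟩ : L) ((rad x).subgroupOf L) := by
    intro s r hs hr hsr
    refine Subtype.ext (h.rInv hF hx ht htH (s : G) (r : G) ?_ hr ?_)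
    · exact ⟨hs.1, fun e => hs.2.1 (Subtype.ext e), congrArg Subtype.val hs.2.2⟩
    · exact congrArg Subtype.val hsr
  have hsq : ∀ g ∈ (rad x).subgroupOf L, (g * g) * (g * g) = 1 := fun g hg => Subtype.ext (by
    have := ((h.mem_rad hF hx).1 hg).2
    simpa [pow_succ, mul_assoc] using this)
  subst hqn
  have hFn : Fintype.card K = (2 ^ n) ^ 2 := hF
  obtain ⟨Ω₂, inst, a₂, t₂, Q₂, hR₂, hG₂, hc₂, hq₂, hr₂, hp₂⟩ := Suz27.psu_model hn hFn
  -- the model's `Q` is not abelian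
  have hna₂ : ∃ a ∈ Q₂, ∃ b ∈ Q₂, a * b ≠ b * a := by
    obtain ⟨P, hP⟩ := hp₂.exists_le_sylow
    obtain ⟨hcP, -, -, -, ⟨a, b, hab⟩, -, -⟩ := SuzukiTwo.psu_sylow hFn hn rfl P
    have hle : Q₂ = (P : Subgroup (Cfsg.PSU 3 K (2 ^ n))) :=
      Subgroup.eq_of_le_of_card_ge hP (by rw [hcP, hc₂])
    exact ⟨a, hle ▸ a.2, b, hle ▸ b.2, fun e => hab (Subtype.ext e)⟩
  obtain ⟨ψ⟩ := Suz27.Core.unique_of_sq (t := (⟨t, htL⟩ : L)) hRL hGL (by rw [hcL, hqL]) hrL hsq
    hR₂ hG₂ (by rw [hc₂, hq₂]) hr₂ (Suz27.sq_sq_of_not_comm hR₂ hp₂ hna₂) (by rw [hq₂, hqL])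
  set q := 2 ^ n with hqdef
  -- move the Sylow subgroup to the standard one
  obtain ⟨T, e, f, hp, hT, hT2⟩ := exists_frame hF (le_refl 3)
  obtain ⟨ψ', hψ'⟩ : ∃ ψ' : L ≃* Cfsg.PSU 3 K q,
      Ugrp hF hp ≤ ((rad x).subgroupOf L).map ψ'.toMonoidHom := by
    have hU : IsPGroup 2 (Ugrp hF hp) := isPGroup_Ugrp hF 2 hp
    obtain ⟨P, hP⟩ := hU.exists_le_sylow
    set R := ((rad x).subgroupOf L).map ψ.toMonoidHom with hRdef
    have hR2 : IsPGroup 2 R := ((h.isPGroup_rad hF hx).of_equiv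
      (Subgroup.subgroupOfEquivOfLe hQL).symm).map _
    obtain ⟨P', hP'⟩ := hR2.exists_le_sylow
    have hcP := (SuzukiTwo.psu_sylow hF hn rfl P').1
    have hP'R : R = (P' : Subgroup (Cfsg.PSU 3 K q)) := by
      refine Subgroup.eq_of_le_of_card_ge hP' (le_of_eq ?_)
      rw [hcP, hRdef, Nat.card_congr (Subgroup.equivMapOfInjective _ _
        ψ.injective).symm.toEquiv, hcL]
    obtain ⟨k, hk⟩ := MulAction.exists_smul_eq (Cfsg.PSU 3 K q) P' P
    refine ⟨ψ.trans (MulAut.conj k), hP.trans ?_⟩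
    intro g hg
    rw [← hk, Sylow.coe_subgroup_smul, Subgroup.mem_pointwise_smul_iff_inv_smul_mem] at hg
    change _ ∈ (P' : Subgroup (Cfsg.PSU 3 K q)) at hg
    rw [← hP'R, hRdef, Subgroup.mem_map] at hg
    obtain ⟨z, hz, hze⟩ := hg
    refine ⟨z, hz, ?_⟩
    simp only [MulEquiv.coe_toMonoidHom, MulEquiv.trans_apply] at hze ⊢
    rw [hze, MulAut.smul_def, MulAut.apply_inv_self]
  -- the action on `L`
  let φ : G →* MulAut (Cfsg.PSU 3 K q) := (MulAut.congr ψ').toMonoidHom.comp MulAut.conjNormal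
  have hφ : ∀ (g : G) (z : L), φ g (ψ' z) = ψ' (MulAut.conjNormal g z) := fun g z => by
    show ψ' (MulAut.conjNormal g (ψ'.symm (ψ' z))) = _
    rw [MulEquiv.symm_apply_apply]
  have hinj : Function.Injective φ := by
    rw [injective_iff_map_eq_one]
    intro g hg
    have hc : ∀ z : G, z ∈ L → g * z = z * g := fun z hz => by
      have h1 := hφ g ⟨z, hz⟩
      rw [hg, MulAut.one_apply] at h1
      have h2 : g * z * g⁻¹ = z := by
        have := congrArg Subtype.val (ψ'.injective h1)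
        rw [MulAut.conjNormal_apply] at this
        exact this.symm
      exact mul_inv_eq_iff_eq_mul.1 h2
    have hgC : g ∈ Subgroup.centralizer ({x} : Set G) := mem_cent.2 (hc x (hinvL x hx))
    obtain ⟨C⟩ := h.coord x hx
    obtain ⟨hX, hM⟩ := C.coords_of_centralises hF (g := ⟨g, hgC⟩) fun s hs => Subtype.ext
      (hc s (hQL ((h.mem_rad hF hx).2 ⟨s.2, congrArg Subtype.val ((C.mem_ker_iff_pow hF).1 hs)⟩)))
    by_contra hne
    have hgr : g ∈ rad x := h.mem_rad_of_mul_self hF hx hgC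
      (congrArg Subtype.val (C.mul_self_of_coords hF hX hM))
    exact hne (h.eq_one_of_commute hF hx ht htH hgr (hc t htL))
  have hinn : ∀ z : G, z ∈ L → φ z ∈ Cfsg.inndiagPSU 3 K q := fun z hz => by
    obtain ⟨s, hs⟩ := piU_surjective (ψ' ⟨z, hz⟩)
    refine (mem_inndiag_iff _).2 ⟨toGU s, ?_⟩
    rw [pgu_rho, hs]
    refine MulEquiv.ext fun w => ?_
    obtain ⟨w, rfl⟩ := ψ'.surjective w
    rw [hφ, MulAut.conj_apply, ← map_mul, ← map_inv, ← map_mul]
    congr 1
  have htor : ∀ d ∈ torus x t, d ∈ Subgroup.centralizer ({x} : Set G) →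
      φ d ∈ Cfsg.inndiagPSU 3 K q := by
    intro d hd hdC
    obtain ⟨j, hj⟩ := h.odd_orderOf_torus hF hx ht htH hd
    refine mem_inndiag_of_fix hF (by have := h.two_lt; omega) hp (φ d) ?_ (m := orderOf d)
      ⟨j, hj⟩ (s := 1) ?_
    · intro c hc
      have hmem : piU 3 K q (tv hF hp.ee hc) ∈ ((rad x).subgroupOf L).map ψ'.toMonoidHom :=
        hψ' (Tgrp_le_Ugrp hF hp (tv_mem_Tgrp hF hp.ee hc))
      obtain ⟨z, hz, hze⟩ := Subgroup.mem_map.1 hmem
      change ψ' z = _ at hze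
      have hz2 : z * z = 1 := sq_inj_preimage ψ' (by
        rw [hze, ← map_mul, ← map_one (piU 3 K q)]
        refine congrArg _ (eq_of_smul_eq_SU fun v => ?_)
        rw [mul_smul, one_smul, tv_smul, tv_smul, herm_add_left, herm_smul_left, hp.ee, mul_zero,
          add_zero, add_assoc, ← add_smul, CharTwo.add_self_eq_zero, zero_smul, add_zero])
      have hcomm := h.central hF hx ((h.mem_rad hF hx).1 hz).1 hdC (congrArg Subtype.val hz2)
      rw [← hze, hφ]
      congr 1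
      refine Subtype.ext ?_
      rw [MulAut.conjNormal_apply]
      exact mul_inv_eq_iff_eq_mul.2 hcomm
    · rw [← map_pow, pow_orderOf_eq_one, map_one, map_one (piU 3 K q), map_one]
  -- every element is in `L (D ∩ C(x))`
  have hall : ∀ g, φ g ∈ Cfsg.inndiagPSU 3 K q := by
    intro g
    obtain ⟨l, hl, hla⟩ : ∃ l ∈ L, l⁻¹ * g ∈ hgrp x := by
      by_cases hg : g ∈ hgrp x
      · exact ⟨1, one_mem _, by simpa using hg⟩
      · obtain ⟨k, hk, hkk⟩ := h.transitive hF hx t g htH hg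
        obtain ⟨s, hs, d, hd, rfl⟩ := h.exists_decomp hF hx ht htH hk
        refine ⟨s * t, mul_mem (hQL hs) htL, ?_⟩
        have hdt : t⁻¹ * d * t ∈ hgrp x := by
          have := hd.2
          rwa [TwoFusionB.inv_eq_of_inv ht] at this ⊢
        have : (s * t)⁻¹ * g = (t⁻¹ * d * t) * (g⁻¹ * (s * d * t))⁻¹ := by group
        rw [this]
        exact mul_mem hdt (inv_mem hkk)
    obtain ⟨s, hs, d, hd, hsd⟩ := h.exists_decomp hF hx ht htH hla
    obtain ⟨i, hi, hi', hc⟩ := h.exists_inverted hF hx ht htH hd.1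
    have hiL : i ∈ L := by
      have e2 := TwoFusionB.sq_eq_one_of_inv ht
      have h1 : t * i ∈ L := hinvL _ (orderOf_eq_two (fun e => htH (by
        have := eq_inv_of_mul_eq_one_left e
        rw [this]; exact inv_mem hi.1)) (by
        rw [← mul_assoc, hi', inv_mul_cancel]))
      have : i = t * (t * i) := by rw [← mul_assoc, e2, one_mul]
      rw [this]; exact mul_mem htL h1
    have hg : g = l * s * i * (i⁻¹ * d) := by
      rw [← mul_inv_cancel_left l g, hsd]; group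
    rw [hg, map_mul]
    exact mul_mem (hinn _ (mul_mem (mul_mem hl (hQL hs)) hiL))
      (htor _ (mul_mem (inv_mem hi) hd) hc)
  obtain ⟨E⟩ := pgu_equiv (K := K) hF
  let Φ : G →* ↥(Cfsg.inndiagPSU 3 K q) := φ.codRestrict _ hall
  have hΦ : Function.Injective Φ := fun a b e => hinj (congrArg Subtype.val e)
  haveI : Finite ↥(Cfsg.inndiagPSU 3 K q) := Finite.of_equiv _ E.toEquiv
  have hbij := hΦ.bijective_of_nat_card_le (le_of_eq (by
    rw [← Nat.card_congr E.toEquiv, card_PGU3 hF (by have := h.two_lt; omega),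
      h.card_group hF hx ht htH]))
  exact ⟨(MulEquiv.ofBijective Φ hbij).trans E.symm⟩

end Hyp

end Cfsg.Agent.PGURec18
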